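import Mathlib
import Cfsg.Agent.Fusion.Extraspecial
import Cfsg.Agent.LargeExtra.Heis

/-!
Classification of extraspecial 2-groups: each is a cocycle group of plus or minus type, and the two
types are told apart by the number of solutions of `x ^ 2 = 1`.
-/

set_option autoImplicit false

namespace Cfsg.Agent.Fg24.ExtraTwo

open Cfsg.Agent.LargeExtra Cfsg.Agent.Fusion
open scoped commutatorElement

variable {E : Type*} [Group E] [Finite E]

/-- Power with exponent in `ZMod 2`. -/
def pw (a : E) (x : ZMod 2) : E := a ^ x.val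

omit [Finite E] in
theorem pw_zero (a : E) : pw a 0 = 1 := pow_zero a

omit [Finite E] in
theorem pw_one (a : E) : pw a 1 = a := by
  simp [pw, show (1 : ZMod 2).val = 1 from rfl]

theorem two_cases : ∀ x : ZMod 2, x = 0 ∨ x = 1 := by decide

omit [Finite E] in
theorem pw_add {z : E} (hz : z * z = 1) (x y : ZMod 2) : pw z (x + y) = pw z x * pw z y := by
  rcases two_cases x with rfl | rfl <;> rcases two_cases y with rfl | rfl <;>
    simp [pw_zero, pw_one, show (1 : ZMod 2) + 1 = 0 from rfl, hz]

/-- A model of the pair: the multiplication law of a section of `H → H/⟨z⟩`. -/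
def Model (z : E) (H : Subgroup E) (m : ℕ) (c : ZMod 2) : Prop :=
  ∃ f : HV m → E, (∀ v, f v ∈ H) ∧ (∀ v w, f v * f w = pw z (hbeta c v w) * f (v + w)) ∧
    ∀ v, (∀ w, hB v w = 0) ∨ f v ∉ Subgroup.center E

omit [Finite E] in
theorem plane_mul {z a b : E} (hz : z * z = 1) (hzc : ∀ g : E, Commute z g)
    (hab : a * b = z * (b * a)) (e : ZMod 2) (ha : a * a = pw z e) (hb : b * b = pw z e)
    (i j k l : ZMod 2) : pw b j * pw a i * (pw b l * pw a k) =
      pw z (i * l + e * (i * k + j * l)) * (pw b (j + l) * pw a (i + k)) := by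
  have hsq : ∀ (u : E), u * u = pw z e → ∀ x y : ZMod 2, pw u x * pw u y = pw z (e * (x * y)) * pw u (x + y) := by
    intro u hu x y
    rcases two_cases x with rfl | rfl <;> rcases two_cases y with rfl | rfl <;>
      simp [pw_zero, pw_one, show (1 : ZMod 2) + 1 = 0 from rfl, hu]
  have hsw : ∀ x y : ZMod 2, pw a x * pw b y = pw z (x * y) * (pw b y * pw a x) := by
    intro x y
    rcases two_cases x with rfl | rfl <;> rcases two_cases y with rfl | rfl <;>
      simp [pw_zero, pw_one, hab]
  have hc : ∀ (s : ZMod 2) (g : E), Commute (pw z s) g := fun s g => (hzc g).pow_left _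
  calc pw b j * pw a i * (pw b l * pw a k)
      = pw b j * (pw a i * pw b l) * pw a k := by group
    _ = pw b j * pw z (i * l) * (pw b l * pw a i) * pw a k := by rw [hsw]; group
    _ = pw z (i * l) * (pw b j * pw b l) * (pw a i * pw a k) := by rw [← (hc _ (pw b j)).eq]; group
    _ = pw z (i * l) * pw z (e * (j * l)) * (pw b (j + l) * pw z (e * (i * k))) * pw a (i + k) := by
        rw [hsq b hb, hsq a ha]; group
    _ = pw z (i * l) * pw z (e * (j * l)) * pw z (e * (i * k)) * (pw b (j + l) * pw a (i + k)) := by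
        rw [← (hc (e * (i * k)) (pw b (j + l))).eq]; group
    _ = _ := by rw [← pw_add hz, ← pw_add hz]; congr 2; ring

/-- Normalised hyperbolic partner data inside a non-degenerate subgroup. -/
theorem exists_plane (h : Cfsg.IsExtraspecial 2 E) {z : E} (hz : z ∈ Subgroup.center E) (hz1 : z ≠ 1)
    (H : Subgroup E) (hnd : H ⊓ Subgroup.centralizer (H : Set E) ≤ Subgroup.center E)
    {a : E} (ha : a ∈ H) (haZ : a ∉ Subgroup.center E) :
    ∃ a' b' : E, a' ∈ H ∧ b' ∈ H ∧ ⁅a', b'⁆ ≠ 1 ∧ a' * b' = z * (b' * a') ∧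
      ((a' * a' = 1 ∧ b' * b' = 1) ∨ (a' * a' = z ∧ b' * b' = z ∧ a * a ≠ 1)) := by
  haveI : Fact (Nat.Prime 2) := ⟨Nat.prime_two⟩
  have hgen := es_center_zpowers h hz hz1
  have hz2 : z * z = 1 := by rw [← sq]; exact es_center_pow h hz
  have hval : ∀ w ∈ Subgroup.center E, w = 1 ∨ w = z := by
    intro w hw
    obtain ⟨i, hi⟩ := hgen.ge hw
    simp only at hi
    rw [← hi]
    rcases Int.even_or_odd' i with ⟨k, rfl | rfl⟩
    · left; rw [zpow_mul, show z ^ (2 : ℤ) = 1 by rw [zpow_two, hz2], one_zpow]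
    · right; rw [zpow_add_one, zpow_mul, show z ^ (2 : ℤ) = 1 by rw [zpow_two, hz2], one_zpow, one_mul]
  have hcomm : ∀ x y : E, ⁅x, y⁆ ≠ 1 → x * y = z * (y * x) := by
    intro x y hxy
    rw [← (hval _ (es_commutator_mem h x y)).resolve_left hxy, commutatorElement_def]; group
  have hsq : ∀ x : E, x * x = 1 ∨ x * x = z := fun x => hval _ (by rw [← sq]; exact es_pow_mem_center h x)
  obtain ⟨b, hb, hab⟩ := es_exists_partner H hnd ha haZ
  have hle := es_commutator_le h
  have h1 : ∀ x y : E, ⁅x, y⁆ ≠ 1 → x * x = 1 → y * y = z → (x * y) * (x * y) = 1 := by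
    intro x y hxy hx hy
    calc x * y * (x * y) = x * (y * x) * y := by group
      _ = x * (z * (x * y)) * y := by
          rw [hcomm x y hxy, show z * (z * (y * x)) = y * x by rw [← mul_assoc, hz2, one_mul]]
      _ = z * ((x * x) * (y * y)) := by
          rw [← mul_assoc x z, Subgroup.mem_center_iff.1 hz x]; group
      _ = 1 := by rw [hx, hy, one_mul, hz2]
  rcases hsq a with ha2 | ha2
  · rcases hsq b with hb2 | hb2
    · exact ⟨a, b, ha, hb, hab, hcomm a b hab, Or.inl ⟨ha2, hb2⟩⟩
    · have hne : ⁅a, a * b⁆ ≠ 1 := by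
        rw [commutatorElement_mul_right_of_le_center hle,
          commutatorElement_eq_one_iff_mul_comm.2 rfl, one_mul]
        exact hab
      exact ⟨a, a * b, ha, mul_mem ha hb, hne, hcomm _ _ hne, Or.inl ⟨ha2, h1 a b hab ha2 hb2⟩⟩
  · rcases hsq b with hb2 | hb2
    · have hba : ⁅b, a⁆ ≠ 1 := fun e => hab
        (commutatorElement_eq_one_iff_mul_comm.2 (commutatorElement_eq_one_iff_mul_comm.1 e).symm)
      have hne : ⁅b, b * a⁆ ≠ 1 := by
        rw [commutatorElement_mul_right_of_le_center hle,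
          commutatorElement_eq_one_iff_mul_comm.2 rfl, one_mul]
        exact hba
      exact ⟨b, b * a, hb, mul_mem hb ha, hne, hcomm _ _ hne, Or.inl ⟨hb2, h1 b a hba hb2 ha2⟩⟩
    · exact ⟨a, b, ha, hb, hab, hcomm a b hab, Or.inr ⟨ha2, hb2, by rwa [ha2]⟩⟩

theorem model_exists (h : Cfsg.IsExtraspecial 2 E) {z : E} (hz : z ∈ Subgroup.center E) (hz1 : z ≠ 1) :
    ∀ (m : ℕ) (H : Subgroup E), Subgroup.center E ≤ H →
      H ⊓ Subgroup.centralizer (H : Set E) ≤ Subgroup.center E →
      Nat.card H = 2 ^ (2 * (m + 1) + 1) → ∃ c : ZMod 2, Model z H m c := by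
  haveI : Fact (Nat.Prime 2) := ⟨Nat.prime_two⟩
  have hz2 : z * z = 1 := by rw [← sq]; exact es_center_pow h hz
  have hzc : ∀ g : E, Commute z g := fun g => (Subgroup.mem_center_iff.1 hz g).symm
  have hle := es_commutator_le h
  -- the map attached to a plane detects non-central elements
  have hplane : ∀ a b : E, ⁅a, b⁆ ≠ 1 → ∀ i j : ZMod 2, ∀ k : E, Commute a k → Commute b k →
      pw b j * pw a i * k ∈ Subgroup.center E → i = 0 ∧ j = 0 := by
    intro a b hab i j k hak hbk hcen
    have e1 := commutatorElement_eq_one_iff_mul_comm.2 (Subgroup.mem_center_iff.1 hcen b).symm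
    have e2 := commutatorElement_eq_one_iff_mul_comm.2 (Subgroup.mem_center_iff.1 hcen a).symm
    rw [commutatorElement_mul_left_of_le_center hle, commutatorElement_mul_left_of_le_center hle,
      commutatorElement_eq_one_iff_mul_comm.2 hbk.symm.eq, mul_one,
      commutatorElement_eq_one_iff_mul_comm.2 (show pw b j * b = b * pw b j from
        (Commute.pow_self b _).eq), one_mul] at e1
    rw [commutatorElement_mul_left_of_le_center hle, commutatorElement_mul_left_of_le_center hle,
      commutatorElement_eq_one_iff_mul_comm.2 hak.symm.eq, mul_one,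
      commutatorElement_eq_one_iff_mul_comm.2 (show pw a i * a = a * pw a i from
        (Commute.pow_self a _).eq), mul_one] at e2
    refine ⟨(two_cases i).resolve_right ?_, (two_cases j).resolve_right ?_⟩
    · rintro rfl
      rw [pw_one] at e1
      exact hab e1
    · rintro rfl
      rw [pw_one] at e2
      exact hab (commutatorElement_eq_one_iff_mul_comm.2 (commutatorElement_eq_one_iff_mul_comm.1 e2).symm)
  intro m
  induction m with
  | zero =>
    intro H hZ hnd hcard
    obtain ⟨a₀, ha₀, ha₀Z⟩ : ∃ a ∈ H, a ∉ Subgroup.center E := by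
      by_contra hne
      push Not at hne
      rw [le_antisymm hne hZ, h.2] at hcard
      norm_num at hcard
    obtain ⟨a, b, ha, hb, hab, hswap, hcase⟩ := exists_plane h hz hz1 H hnd ha₀ ha₀Z
    obtain ⟨c, hca, hcb⟩ : ∃ c : ZMod 2, a * a = pw z c ∧ b * b = pw z c := by
      rcases hcase with ⟨h1, h2⟩ | ⟨h1, h2, -⟩
      · exact ⟨0, by rwa [pw_zero], by rwa [pw_zero]⟩
      · exact ⟨1, by rwa [pw_one], by rwa [pw_one]⟩
    refine ⟨c, fun v => pw b (v.2 0) * pw a (v.1 0),
      fun v => mul_mem (pow_mem hb _) (pow_mem ha _), fun v w => ?_, fun v => ?_⟩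
    · simp [plane_mul hz2 hzc hswap c hca hcb, hbeta, dotProduct]
    · by_cases hc : pw b (v.2 0) * pw a (v.1 0) ∈ Subgroup.center E
      · left
        obtain ⟨h1, h2⟩ := hplane a b hab (v.1 0) (v.2 0) 1 (Commute.one_right a)
          (Commute.one_right b) (by rwa [mul_one])
        intro w
        simp [hB, dotProduct, Fin.sum_univ_one, h1, h2]
      · exact Or.inr hc
  | succ m ih =>
    intro H hZ hnd hcard
    obtain ⟨a₁, ha₁, ha₁Z⟩ : ∃ a ∈ H, a ∉ Subgroup.center E := by
      by_contra hne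
      push Not at hne
      rw [le_antisymm hne hZ, h.2] at hcard
      have : 2 ^ 1 < 2 ^ (2 * (m + 1 + 1) + 1) := Nat.pow_lt_pow_right (by norm_num) (by omega)
      omega
    -- a non-central involution
    obtain ⟨a₀, ha₀, ha₀Z, ha₀2⟩ : ∃ a ∈ H, a ∉ Subgroup.center E ∧ a * a = 1 := by
      obtain ⟨a, b, ha, hb, hab, hswap, hcase⟩ := exists_plane h hz hz1 H hnd ha₁ ha₁Z
      have haZ : a ∉ Subgroup.center E := fun hc =>
        hab (commutatorElement_eq_one_iff_mul_comm.2 (Subgroup.mem_center_iff.1 hc b).symm)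
      rcases hcase with ⟨h1, -⟩ | ⟨h1, -, -⟩
      · exact ⟨a, ha, haZ, h1⟩
      obtain ⟨K, hKH, hZK, hKnd, hKcard, hKcomm, -⟩ := es_step h H hZ hnd ha hb hab
      obtain ⟨d, hd, hdZ⟩ : ∃ d ∈ K, d ∉ Subgroup.center E := by
        by_contra hne
        push Not at hne
        rw [le_antisymm hne hZK, h.2, hcard, show (2 : ℕ) ^ 2 * 2 = 2 ^ 3 from rfl] at hKcard
        have := Nat.pow_right_injective le_rfl hKcard
        omega
      obtain ⟨a', b', ha', hb', hab', hswap', hcase'⟩ := exists_plane h hz hz1 K hKnd hd hdZ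
      have ha'Z : a' ∉ Subgroup.center E := fun hc =>
        hab' (commutatorElement_eq_one_iff_mul_comm.2 (Subgroup.mem_center_iff.1 hc b').symm)
      rcases hcase' with ⟨h2, -⟩ | ⟨h2, -, -⟩
      · exact ⟨a', hKH ha', ha'Z, h2⟩
      · refine ⟨a * a', mul_mem ha (hKH ha'), fun hc => hab ?_, ?_⟩
        · have e1 := commutatorElement_eq_one_iff_mul_comm.2 (Subgroup.mem_center_iff.1 hc b).symm
          rwa [commutatorElement_mul_left_of_le_center hle,
            commutatorElement_eq_one_iff_mul_comm.2 (hKcomm a' ha').2.eq.symm, mul_one] at e1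
        · calc a * a' * (a * a') = a * (a' * a) * a' := by group
            _ = a * a * (a' * a') := by rw [← (hKcomm a' ha').1.eq]; group
            _ = 1 := by rw [h1, h2, hz2]
    obtain ⟨a, b, ha, hb, hab, hswap, hcase⟩ := exists_plane h hz hz1 H hnd ha₀ ha₀Z
    obtain ⟨ha2, hb2⟩ : a * a = 1 ∧ b * b = 1 := hcase.resolve_right fun e => e.2.2 ha₀2
    obtain ⟨K, hKH, hZK, hKnd, hKcard, hKcomm, -⟩ := es_step h H hZ hnd ha hb hab
    obtain ⟨c, f, hfK, hfmul, hfinj⟩ := ih K hZK hKnd (by
      rw [hcard, show 2 * (m + 1 + 1) + 1 = 2 + (2 * (m + 1) + 1) by ring, pow_add] at hKcard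
      exact (Nat.eq_of_mul_eq_mul_left (by norm_num) hKcard).symm)
    refine ⟨c, fun v => pw b (v.2 (Fin.last _)) * pw a (v.1 (Fin.last _)) *
      f (fun i => v.1 i.castSucc, fun i => v.2 i.castSucc),
      fun v => mul_mem (mul_mem (pow_mem hb _) (pow_mem ha _)) (hKH (hfK _)), fun v w => ?_, fun v => ?_⟩
    · simp only
      set fv := f (fun i => v.1 i.castSucc, fun i => v.2 i.castSucc)
      set fw := f (fun i => w.1 i.castSucc, fun i => w.2 i.castSucc)
      have hcw : Commute fv (pw b (w.2 (Fin.last _)) * pw a (w.1 (Fin.last _))) :=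
        (((hKcomm _ (hfK _)).2.pow_left _).symm).mul_right (((hKcomm _ (hfK _)).1.pow_left _).symm)
      have hc : ∀ (s : ZMod 2) (g : E), Commute (pw z s) g := fun s g => (hzc g).pow_left _
      have key := plane_mul hz2 hzc hswap 0 (by rwa [pw_zero]) (by rwa [pw_zero])
        (v.1 (Fin.last _)) (v.2 (Fin.last _)) (w.1 (Fin.last _)) (w.2 (Fin.last _))
      rw [zero_mul, add_zero] at key
      have hb' : hbeta c v w = v.1 (Fin.last _) * w.2 (Fin.last _) +
          hbeta c (fun i => v.1 i.castSucc, fun i => v.2 i.castSucc)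
            (fun i => w.1 i.castSucc, fun i => w.2 i.castSucc) := by
        simp only [hbeta, dotProduct, Fin.sum_univ_castSucc (n := m + 1), Fin.castSucc_zero]
        ring
      calc pw b (v.2 (Fin.last _)) * pw a (v.1 (Fin.last _)) * fv *
            (pw b (w.2 (Fin.last _)) * pw a (w.1 (Fin.last _)) * fw)
          = pw b (v.2 (Fin.last _)) * pw a (v.1 (Fin.last _)) *
            (fv * (pw b (w.2 (Fin.last _)) * pw a (w.1 (Fin.last _)))) * fw := by group
        _ = (pw b (v.2 (Fin.last _)) * pw a (v.1 (Fin.last _)) *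
            (pw b (w.2 (Fin.last _)) * pw a (w.1 (Fin.last _)))) * (fv * fw) := by rw [hcw.eq]; group
        _ = _ := by
            rw [key, hfmul, hb', pw_add hz2]
            simp only [Prod.fst_add, Prod.snd_add, Pi.add_apply]
            set s := hbeta c (fun i => v.1 i.castSucc, fun i => v.2 i.castSucc)
              (fun i => w.1 i.castSucc, fun i => w.2 i.castSucc)
            set P := pw b (v.2 (Fin.last _) + w.2 (Fin.last _)) * pw a (v.1 (Fin.last _) + w.1 (Fin.last _))
            rw [show ∀ X Y F : E, X * P * (Y * F) = X * (P * Y) * F from fun X Y F => by group,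
              ← (hc s P).eq]
            simp only [mul_assoc]
            rfl
    · by_cases hc : pw b (v.2 (Fin.last _)) * pw a (v.1 (Fin.last _)) *
          f (fun i => v.1 i.castSucc, fun i => v.2 i.castSucc) ∈ Subgroup.center E
      · left
        obtain ⟨h1, h2⟩ := hplane a b hab _ _ _ (hKcomm _ (hfK _)).1 (hKcomm _ (hfK _)).2 hc
        rw [h1, h2, pw_zero, pw_zero, one_mul, one_mul] at hc
        have h0 : ((fun i => v.1 i.castSucc, fun i => v.2 i.castSucc) : HV m) = 0 :=
          hB_nondeg ((hfinj _).resolve_right fun e => e hc)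
        have hv : v = 0 := by
          refine Prod.ext (funext fun i => ?_) (funext fun i => ?_)
          · refine Fin.lastCases (motive := fun i => v.1 i = 0) h1 (fun j => ?_) i
            exact congrFun (congrArg Prod.fst h0) j
          · refine Fin.lastCases (motive := fun i => v.2 i = 0) h2 (fun j => ?_) i
            exact congrFun (congrArg Prod.snd h0) j
        intro w
        simp [hv, hB]
      · exact Or.inr hc

/-- Every extraspecial 2-group is one of the cocycle groups. -/
theorem exists_equiv_heis (h : Cfsg.IsExtraspecial 2 E) :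
    ∃ (m : ℕ) (c : ZMod 2), Nonempty (E ≃* Heis m c) := by
  haveI : Fact (Nat.Prime 2) := ⟨Nat.prime_two⟩
  obtain ⟨⟨z, hz⟩, hz1'⟩ := exists_ne_map_one
  obtain ⟨n, hn⟩ := es_card_eq h ⊤ le_top es_top_nondeg
  rw [Subgroup.card_top] at hn
  obtain ⟨m, rfl⟩ : ∃ m, n = m + 1 := by
    refine ⟨n - 1, ?_⟩
    rcases Nat.eq_zero_or_pos n with rfl | hn0
    · exfalso
      have hcen : Subgroup.center E = ⊤ := Subgroup.eq_top_of_card_eq _ (by rw [h.2, hn]; norm_num)
      have hbot : commutator E = ⊥ := by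
        rw [commutator_eq_closure, Subgroup.closure_eq_bot_iff]
        rintro x ⟨a, b, rfl⟩
        exact commutatorElement_eq_one_iff_mul_comm.2
          (Subgroup.mem_center_iff.1 (hcen ▸ Subgroup.mem_top b) a)
      have := h.1.2.2
      rw [hbot, hcen] at this
      exact absurd (congrArg (fun K : Subgroup E => Nat.card K) this) (by simp [Subgroup.card_top, hn])
    · omega
  have hz1 : z ≠ 1 := hz1'
  obtain ⟨c, f, -, hmul, hinj⟩ := model_exists h hz hz1 m ⊤ le_top es_top_nondeg
    (by rw [Subgroup.card_top, hn])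
  have hz2 : z * z = 1 := by rw [← sq]; exact es_center_pow h hz
  have hzc : ∀ g : E, Commute z g := fun g => (Subgroup.mem_center_iff.1 hz g).symm
  let φ : Heis m c →* E := MonoidHom.mk' (fun x => pw z x.s * f x.v) fun x y => by
    simp only [Heis.mul_def, pw_add hz2]
    calc pw z x.s * pw z y.s * pw z (hbeta c x.v y.v) * f (x.v + y.v)
        = pw z x.s * pw z y.s * (f x.v * f y.v) := by rw [hmul]; group
      _ = pw z x.s * (pw z y.s * f x.v) * f y.v := by group
      _ = pw z x.s * f x.v * (pw z y.s * f y.v) := by rw [show pw z y.s * f x.v = f x.v * pw z y.s from ((hzc (f x.v)).pow_left _).eq]; group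
  have hφ : Function.Injective φ := by
    refine (injective_iff_map_eq_one φ).2 fun x hx => ?_
    have hx' : pw z x.s * f x.v = 1 := hx
    have hv : x.v = 0 := by
      refine hB_nondeg ((hinj x.v).resolve_right fun hne => hne ?_)
      rw [← inv_eq_of_mul_eq_one_right hx']
      exact inv_mem (pow_mem hz _)
    have hf0 : f 0 = 1 := by
      have := hmul 0 0
      rw [show hbeta c (0 : HV m) 0 = 0 from Heis.hbeta_zero_left 0, pw_zero, one_mul, add_zero] at this
      exact mul_eq_left.1 this
    rw [hv, hf0, mul_one] at hx'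
    rcases two_cases x.s with hs | hs
    · exact Heis.ext hv hs
    · rw [hs, pw_one] at hx'
      exact absurd hx' hz1
  exact ⟨m, c, ⟨(MulEquiv.ofBijective φ ((Nat.bijective_iff_injective_and_card φ).2
    ⟨hφ, by rw [Heis.card, hn]⟩)).symm⟩⟩
where
  exists_ne_map_one : ∃ w : Subgroup.center E, (w : E) ≠ 1 := by
    haveI : Nontrivial (Subgroup.center E) := Finite.one_lt_card_iff_nontrivial.1 (by rw [h.2]; norm_num)
    obtain ⟨w, hw⟩ := exists_ne (1 : Subgroup.center E)
    exact ⟨w, fun e => hw (Subtype.ext e)⟩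

theorem card_sq_eq_one (m : ℕ) :
    Nat.card {x : Heis m 0 // x ^ 2 = 1} = 2 ^ (2 * (m + 1)) + 2 ^ (m + 1) ∧
    Nat.card {x : Heis m 1 // x ^ 2 = 1} = 2 ^ (2 * (m + 1)) - 2 ^ (m + 1) := by
  classical
  -- the Gauss sum of the plus type
  let L : AddSubgroup (HV m) :=
    { carrier := {v | v.2 = 0}
      zero_mem' := rfl
      add_mem' := fun {a b} (ha : a.2 = 0) (hb : b.2 = 0) => show a.2 + b.2 = 0 by rw [ha, hb, add_zero]
      neg_mem' := fun {a} (ha : a.2 = 0) => show -a.2 = 0 by rw [ha, neg_zero] }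
  have hS0 := gauss 0 L (fun w (hw : w.2 = 0) => by simp [hbeta, hw]) (fun v hv => by
    show v.2 = 0
    funext i
    simpa [hB] using hv (Pi.single i 1, 0) (show (0 : Fin (m + 1) → ZMod 2) = 0 from rfl))
    fun v (hv : v.2 = 0) w (hw : w.2 = 0) => by simp [hB, hv, hw]
  have hL : Nat.card L = 2 ^ (m + 1) := by
    rw [Nat.card_congr (⟨fun x => x.1.1, fun a => ⟨(a, 0), rfl⟩, fun x => Subtype.ext
      (Prod.ext rfl x.2.symm), fun a => rfl⟩ : ↥L ≃ (Fin (m + 1) → ZMod 2)),
      Nat.card_fun, Nat.card_zmod, Nat.card_eq_fintype_card, Fintype.card_fin]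
  rw [hL] at hS0
  let e : HV m := (Pi.single 0 1, Pi.single 0 1)
  have hS1 : ∑ v : HV m, hchi (hbeta 1 v v) = -((2 ^ (m + 1) : ℕ) : ℤ) := by
    rw [← hS0, ← Equiv.sum_comp (Equiv.addRight e) (fun v => hchi (hbeta 0 v v)),
      ← Finset.sum_neg_distrib]
    refine Finset.sum_congr rfl fun v _ => ?_
    have hid : hbeta 0 (v + e) (v + e) = hbeta 1 v v + 1 := by
      have : ∀ a b : ZMod 2, a + b + 1 = a * a + b * b + 1 := by decide
      simp only [hbeta_add_left, hbeta_add_right]
      simp [hbeta, e]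
      linear_combination this (v.1 0) (v.2 0)
    simp only [Equiv.coe_addRight, hid, hchi_add]
    simp [hchi]
  have key : ∀ c : ZMod 2, (Nat.card {x : Heis m c // x ^ 2 = 1} : ℤ) =
      2 ^ (2 * (m + 1)) + ∑ v : HV m, hchi (hbeta c v v) := by
    intro c
    have hcard : Nat.card {x : Heis m c // x ^ 2 = 1} = 2 * Nat.card {v : HV m // hbeta c v v = 0} := by
      rw [Nat.card_congr (⟨fun x => (x.1.s, ⟨x.1.v, by
        have := x.2; rw [sq, Heis.sq_eq] at this; exact congrArg Heis.s this⟩),
        fun p => ⟨⟨p.2.1, p.1⟩, by rw [sq, Heis.sq_eq, p.2.2]; rfl⟩, fun x => rfl, fun p => rfl⟩ :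
        {x : Heis m c // x ^ 2 = 1} ≃ ZMod 2 × {v : HV m // hbeta c v v = 0}),
        Nat.card_prod, Nat.card_zmod]
    have hsum : ∑ v : HV m, hchi (hbeta c v v) =
        ∑ v : HV m, (2 * (if hbeta c v v = 0 then (1 : ℤ) else 0) - 1) := by
      refine Finset.sum_congr rfl fun v _ => ?_
      unfold hchi
      split_ifs <;> norm_num
    rw [hcard, hsum, Finset.sum_sub_distrib, ← Finset.mul_sum, Finset.sum_boole, Finset.sum_const,
      Finset.card_univ, nsmul_eq_mul, mul_one, Nat.card_eq_fintype_card (α := {v : HV m // _}),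
      Fintype.card_subtype, ← Nat.card_eq_fintype_card, hcard']
    push_cast
    ring
  have hle : 2 ^ (m + 1) ≤ 2 ^ (2 * (m + 1)) := Nat.pow_le_pow_right (by norm_num) (by omega)
  constructor
  · have := key 0
    rw [hS0] at this
    push_cast at this
    exact_mod_cast this
  · have := key 1
    rw [hS1] at this
    zify [hle]
    push_cast at this
    rw [this]
    ring
where
  hcard' {m : ℕ} : Nat.card (HV m) = 2 ^ (2 * (m + 1)) := Cfsg.Agent.LargeExtra.hcard

end Cfsg.Agent.Fg24.ExtraTwo
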