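import Cfsg.Agent.Char.Artin
import Cfsg.Agent.Fusion.UniqueInvolution
import Mathlib.GroupTheory.SchurZassenhaus
import Mathlib.GroupTheory.NoncommCoprod
import Mathlib.GroupTheory.SpecificGroups.Quaternion

/-!
Nilpotent groups all of whose centralisers of noncentral elements are cyclic.
-/

set_option autoImplicit false

namespace Cfsg.Agent.Fg24

open Subgroup QuaternionGroup

universe u

theorem zmod_two_mul_eq_zero {n : ℕ} [NeZero n] {i : ZMod (2 * n)} (h : 2 * i = 0) :
    i = 0 ∨ i = n := by
  obtain ⟨v, hv, rfl⟩ : ∃ v : ℕ, v < 2 * n ∧ (v : ZMod (2 * n)) = i :=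
    ⟨i.val, ZMod.val_lt i, ZMod.natCast_zmod_val i⟩
  have h' : ((2 * v : ℕ) : ZMod (2 * n)) = 0 := by push_cast; exact h
  rw [ZMod.natCast_eq_zero_iff] at h'
  obtain ⟨c, hc⟩ := h'
  rcases Nat.lt_or_ge c 2 with h2 | h2
  · rcases Nat.lt_or_ge c 1 with h1 | h1
    · left; obtain rfl : c = 0 := by omega
      obtain rfl : v = 0 := by omega
      simp
    · right; obtain rfl : c = 1 := by omega
      obtain rfl : v = n := by omega
      rfl
  · have : 2 * n * 2 ≤ 2 * n * c := Nat.mul_le_mul_left _ h2
    omega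

/-- Centralisers of noncentral elements of a generalised quaternion group are cyclic. -/
theorem isCyclic_centralizer_quaternion {n : ℕ} [NeZero n] {q : QuaternionGroup n}
    (hq : q ∉ center (QuaternionGroup n)) : IsCyclic (centralizer ({q} : Set (QuaternionGroup n))) := by
  suffices h : ∃ g, centralizer ({q} : Set (QuaternionGroup n)) ≤ zpowers g by
    obtain ⟨g, hg⟩ := h
    exact isCyclic_of_le hg
  cases q with
  | a j =>
    refine ⟨a 1, fun y hy => ?_⟩
    rw [mem_centralizer_singleton_iff] at hy
    cases y with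
    | a i =>
      exact ⟨(i.val : ℤ), by show a 1 ^ (i.val : ℤ) = _; rw [zpow_natCast, a_one_pow, ZMod.natCast_zmod_val]⟩
    | xa i =>
      rw [a_mul_xa, xa_mul_a, xa.injEq] at hy
      refine absurd (mem_center_iff.2 fun y => ?_) hq
      cases y with
      | a l => rw [a_mul_a, a_mul_a, add_comm]
      | xa l =>
        rw [a_mul_xa, xa_mul_a, xa.injEq]
        linear_combination hy
  | xa j =>
    refine ⟨xa j, fun y hy => ?_⟩
    rw [mem_centralizer_singleton_iff] at hy
    have hsq : xa j * xa j = a (n : ZMod (2 * n)) := by rw [xa_mul_xa]; simp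
    have hcube : xa j * xa j * xa j = xa (j + (n : ZMod (2 * n))) := by
      rw [hsq, a_mul_xa]
      congr 1
      have h2 : (2 : ZMod (2 * n)) * n = 0 := by
        have := ZMod.natCast_self (2 * n); push_cast at this; exact this
      linear_combination -h2
    have hm := mem_zpowers (xa j)
    cases y with
    | a i =>
      rw [a_mul_xa, xa_mul_a, xa.injEq] at hy
      rcases zmod_two_mul_eq_zero (i := i) (by linear_combination -hy) with h | h <;> rw [h]
      · exact one_mem _
      · rw [← hsq]; exact mul_mem hm hm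
    | xa i =>
      rw [xa_mul_xa, xa_mul_xa, a.injEq] at hy
      rcases zmod_two_mul_eq_zero (i := i - j) (by linear_combination -hy) with h | h
      · rw [sub_eq_zero.1 h]; exact hm
      · rw [show i = j + (n : ZMod (2 * n)) by linear_combination h, ← hcube]
        exact mul_mem (mul_mem hm hm) hm

theorem quaternion_not_comm {k : ℕ} (hk : 1 ≤ k) :
    xa 0 * a 1 ≠ a 1 * (xa 0 : QuaternionGroup (2 ^ k)) := by
  rw [xa_mul_a, a_mul_xa]
  intro h
  rw [xa.injEq, zero_add, zero_sub] at h
  have h2 : ((2 : ℕ) : ZMod (2 * 2 ^ k)) = 0 := by push_cast; linear_combination h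
  rw [ZMod.natCast_eq_zero_iff] at h2
  have h3 := Nat.le_of_dvd two_pos h2
  have : 2 ^ 1 ≤ 2 ^ k := Nat.pow_le_pow_right two_pos hk
  omega

variable {G : Type u} [Group G] [Finite G]

theorem cyclic_centralizers_iff (hG : Group.IsNilpotent G) (hna : ¬ IsMulCommutative G) :
    (∀ x : G, x ∉ center G → IsCyclic (centralizer ({x} : Set G))) ↔
      ∃ (k m : ℕ), 1 ≤ k ∧ Odd m ∧
        Nonempty (G ≃* QuaternionGroup (2 ^ k) × Multiplicative (ZMod m)) := by
  constructor
  · intro h
    obtain ⟨p, hp, P, hP⟩ : ∃ (p : ℕ) (_ : p.Prime) (P : Sylow p G),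
        ¬ IsMulCommutative (P : Subgroup G) := by
      by_contra hcon
      push Not at hcon
      obtain ⟨e⟩ := ((Group.isNilpotent_of_finite_tfae (G := G)).out 0 4).mp hG
      refine hna ⟨⟨fun a b => e.symm.injective ?_⟩⟩
      rw [map_mul, map_mul]
      exact funext fun r => funext fun S =>
        (hcon r (Nat.prime_of_mem_primeFactors r.2) S).is_comm.comm _ _
    have := Fact.mk hp
    have hPn : (P : Subgroup G).Normal :=
      ((Group.isNilpotent_of_finite_tfae (G := G)).out 0 3 rfl rfl).mp hG p inferInstance P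
    obtain ⟨H, hH⟩ := exists_right_complement'_of_coprime P.card_coprime_index
    have hHcard : Nat.card H = (P : Subgroup G).index := by rw [hH.symm.index_eq_card]
    have hcop : (Nat.card (P : Subgroup G)).Coprime (Nat.card H) := hHcard ▸ P.card_coprime_index
    have hcomm : ∀ a ∈ (P : Subgroup G), ∀ b ∈ H, Commute a b := fun a ha b hb =>
      Char.commute_of_nilpotent_coprime ((hcop.coprime_dvd_left
        (orderOf_dvd_natCard _ ha)).coprime_dvd_right (orderOf_dvd_natCard _ hb))
    obtain ⟨x, hxP, y, hyP, hxy⟩ : ∃ x ∈ (P : Subgroup G), ∃ y ∈ (P : Subgroup G), x * y ≠ y * x := by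
      by_contra hcon
      push Not at hcon
      exact hP ⟨⟨fun a b => Subtype.ext (hcon a a.2 b b.2)⟩⟩
    have hncen : ∀ {u v : G}, u * v ≠ v * u → u ∉ center G := fun {u v} huv hu =>
      huv (mem_center_iff.1 hu v).symm
    have hxc := h x (hncen hxy)
    have hHc : IsCyclic H := isCyclic_of_le (H' := centralizer ({x} : Set G))
      (fun b hb => mem_centralizer_singleton_iff.2 (hcomm x hxP b hb).eq.symm)
    -- unique subgroup of order `p`
    have hcyc : ∀ u : G, u ∉ center G → IsCyclic (centralizer ({u} : Set G)) := h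
    have hZc : IsCyclic (center G) :=
      isCyclic_of_le (H' := centralizer ({x} : Set G)) fun z hz =>
        mem_centralizer_singleton_iff.2 (mem_center_iff.1 hz x).symm
    obtain ⟨z, hzc, hz⟩ : ∃ z ∈ center G, orderOf z = p := by
      have : Nontrivial (P : Subgroup G) :=
        ⟨⟨x, hxP⟩, 1, fun e => hxy (by rw [show x = 1 from congrArg Subtype.val e]; simp)⟩
      have := P.isPGroup'.center_nontrivial
      obtain ⟨c, hc⟩ := exists_ne (1 : center (P : Subgroup G))
      obtain ⟨j, hj⟩ := IsPGroup.iff_orderOf.mp (P.isPGroup'.to_subgroup (center _)) c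
      have hj0 : j ≠ 0 := fun e => hc (orderOf_eq_one_iff.1 (by rw [hj, e, pow_zero]))
      have hd : p ∣ orderOf ((c : (P : Subgroup G)) : G) := by
        rw [orderOf_coe, orderOf_coe, hj]; exact dvd_pow_self p hj0
      refine ⟨((c : (P : Subgroup G)) : G) ^ (orderOf ((c : (P : Subgroup G)) : G) / p),
        pow_mem (mem_center_iff.2 fun g => ?_) _,
        orderOf_pow_orderOf_div (orderOf_pos _).ne' hd⟩
      obtain ⟨⟨a, ha⟩, ⟨b, hb⟩, rfl⟩ := (hH : IsComplement _ _).2 g |> fun ⟨q, hq⟩ =>
        (⟨q.1, q.2, hq⟩ : ∃ a : ((P : Subgroup G) : Set G), ∃ b : (H : Set G), (a : G) * b = g)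
      have h1 : (a : G) * ((c : (P : Subgroup G)) : G) = ((c : (P : Subgroup G)) : G) * a :=
        congrArg Subtype.val (mem_center_iff.1 c.2 ⟨a, ha⟩)
      have h2 := hcomm _ (c : (P : Subgroup G)).2 b hb
      show a * b * _ = _ * (a * b)
      rw [mul_assoc, ← h2.eq, ← mul_assoc, h1, mul_assoc]
    have huniq : ∀ w : G, orderOf w = p → w ∈ zpowers z := by
      intro w hw
      by_cases hwc : w ∈ center G
      · exact Fusion.mem_zpowers_of_orderOf_dvd hZc hwc hzc (by rw [hw, hz])
      · exact Fusion.mem_zpowers_of_orderOf_dvd (hcyc w hwc)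
          (mem_centralizer_singleton_iff.2 rfl)
          (mem_centralizer_singleton_iff.2 (mem_center_iff.1 hzc w).symm) (by rw [hw, hz])
    have hPQ := Fusion.cyclic_or_quaternion_of_unique P.isPGroup' fun A B hA hB => by
      have key : ∀ A : Subgroup (P : Subgroup G), Nat.card A = p →
          A.map (P : Subgroup G).subtype = zpowers z := by
        intro A hA
        refine eq_of_le_of_card_ge ?_ (by
          rw [card_map_of_injective (P : Subgroup G).subtype_injective, hA, Nat.card_zpowers, hz])
        rintro _ ⟨a, ha, rfl⟩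
        rcases eq_or_ne a 1 with rfl | ha1
        · simp
        · refine huniq _ ?_
          rw [coe_subtype, orderOf_coe]
          exact orderOf_eq_prime (orderOf_dvd_iff_pow_eq_one.1 ((orderOf_dvd_natCard A ha).trans (dvd_of_eq hA))) ha1
      exact map_injective (P : Subgroup G).subtype_injective ((key A hA).trans (key B hB).symm)
    obtain ⟨rfl, k, hk, ⟨eP⟩⟩ := hPQ.resolve_left fun hc =>
      hxy (congrArg Subtype.val ((hc.isMulCommutative).is_comm.comm ⟨x, hxP⟩ ⟨y, hyP⟩))
    refine ⟨k, Nat.card H, hk, ?_, ?_⟩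
    · have h2 := P.not_dvd_index
      rw [← hHcard] at h2
      exact Nat.odd_iff.2 (Nat.two_dvd_ne_zero.1 h2)
    let f : ↥(P : Subgroup G) × H →* G :=
      MonoidHom.noncommCoprod (P : Subgroup G).subtype H.subtype fun a b => hcomm a a.2 b b.2
    let e : ↥(P : Subgroup G) × H ≃* G := MulEquiv.ofBijective f hH
    exact ⟨e.symm.trans (eP.prodCongr (zmodCyclicMulEquiv hHc).symm)⟩
  · rintro ⟨k, m, hk, hm, ⟨e⟩⟩ x hx
    have : NeZero m := ⟨by rintro rfl; simp at hm⟩
    obtain ⟨⟨q, c⟩, hy⟩ : ∃ y, e x = y := ⟨_, rfl⟩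
    have hq : q ∉ center (QuaternionGroup (2 ^ k)) := by
      intro hq
      refine hx (mem_center_iff.2 fun g => e.injective ?_)
      rw [map_mul, map_mul, hy]
      exact Prod.ext (mem_center_iff.1 hq _) (mul_comm _ _)
    have hC := isCyclic_centralizer_quaternion hq
    set C := centralizer ({q} : Set (QuaternionGroup (2 ^ k))) with hCdef
    have hprod : IsCyclic (C × Multiplicative (ZMod m)) := by
      rw [Group.isCyclic_prod_iff]
      refine ⟨hC, inferInstance, ?_⟩
      have hd : Nat.card C ∣ 4 * 2 ^ k := by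
        have h := card_subgroup_dvd_card C
        rwa [Nat.card_eq_fintype_card (α := QuaternionGroup _), QuaternionGroup.card] at h
      refine Nat.Coprime.coprime_dvd_left hd ?_
      rw [Nat.card_eq_fintype_card, Fintype.card_multiplicative, ZMod.card,
        show 4 * 2 ^ k = 2 ^ (k + 2) by ring]
      exact (Nat.coprime_two_left.2 hm).pow_left _
    let f : C × Multiplicative (ZMod m) →* G :=
      e.symm.toMonoidHom.comp ((C.subtype).prodMap (MonoidHom.id _))
    have hle : centralizer ({x} : Set G) ≤ f.range := by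
      intro g hg
      rw [mem_centralizer_singleton_iff] at hg
      have h1 := congrArg (fun z => (e z).1) hg
      simp only [map_mul, hy, Prod.fst_mul] at h1
      exact ⟨(⟨(e g).1, mem_centralizer_singleton_iff.2 h1⟩, (e g).2),
        by simp [f]⟩
    have : IsCyclic f.range := isCyclic_of_surjective f.rangeRestrict f.rangeRestrict_surjective
    exact isCyclic_of_le hle

end Cfsg.Agent.Fg24
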