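import Cfsg.Prelude.Def_Local
import Cfsg.Agent.Core.PCore
import Cfsg.Agent.Core.MinimalNormal
import Cfsg.Agent.Fusion.Control
import Cfsg.Agent.Fusion.Transfer
import Cfsg.Agent.Fusion.UniqueInvolution
import Cfsg.Agent.Layer.Components
import Cfsg.Agent.Layer.FStar
import Mathlib.GroupTheory.SpecificGroups.Cyclic
import Mathlib.RingTheory.IntegralDomain

/-!
Groups with trivial `p'`-core and cyclic Sylow `p`-subgroup.
-/

set_option autoImplicit false

namespace Cfsg.Agent.Fg24

open Subgroup
open scoped Pointwise commutatorElement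

set_option linter.unusedSectionVars false

universe u

variable {G : Type u} [Group G] [Finite G]

/-- An element of order prime to `p` normalising a cyclic `p`-subgroup centralises it or acts
without nontrivial fixed points, all elements being commutators. -/
theorem cyclic_fixed_or_fpf {p : ℕ} (hp : p.Prime) {P : Subgroup G} (hP : IsCyclic P) {k : ℕ}
    (hk : Nat.card P = p ^ k) {n : G} (hn : n ∈ normalizer (P : Set G))
    (hco : (orderOf n).Coprime p) :
    (∀ y ∈ P, n * y * n⁻¹ = y) ∨
      ((∀ y ∈ P, ∃ w ∈ P, y = n * w * n⁻¹ * w⁻¹) ∧ ∀ y ∈ P, n * y * n⁻¹ = y → y = 1) := by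
  obtain ⟨⟨x, hx⟩, hgen⟩ := hP.exists_generator
  have hmem : ∀ y ∈ P, ∃ j : ℤ, x ^ j = y := fun y hy => by
    obtain ⟨j, hj⟩ := hgen ⟨y, hy⟩
    exact ⟨j, congrArg Subtype.val hj⟩
  have hox : orderOf x = p ^ k := by
    rw [← hk, ← orderOf_eq_card_of_forall_mem_zpowers hgen, Subgroup.orderOf_mk]
  obtain ⟨r, hr⟩ := hmem _ ((mem_normalizer_iff.1 hn x).1 hx)
  have hconj : ∀ j : ℤ, n * x ^ j * n⁻¹ = x ^ (r * j) := fun j => by
    rw [← conj_zpow, ← hr, zpow_mul]
  by_cases hd : (p : ℤ) ∣ r - 1
  · left
    have h1 : ∀ m : ℕ, n ^ m * x * (n ^ m)⁻¹ = x ^ (r ^ m) := by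
      intro m
      induction m with
      | zero => simp
      | succ m ih =>
        rw [pow_succ' n, show n * n ^ m * x * (n * n ^ m)⁻¹ = n * (n ^ m * x * (n ^ m)⁻¹) * n⁻¹ by
          group, ih, hconj, ← pow_succ']
    have h2 : x ^ (r ^ orderOf n - 1) = 1 := by
      have h := h1 (orderOf n)
      rw [pow_orderOf_eq_one, one_mul, inv_one, mul_one] at h
      rw [zpow_sub, zpow_one, ← h, mul_inv_cancel]
    rw [← orderOf_dvd_iff_zpow_eq_one, hox] at h2
    push_cast at h2
    have h3 : (p : ℤ) ^ k ∣ r ^ p ^ k - 1 := by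
      have h := dvd_sub_pow_of_dvd_sub hd k
      rw [one_pow] at h
      exact (pow_dvd_pow _ k.le_succ).trans h
    -- exponents coprime, so `r ≡ 1`
    have h4 : (p : ℤ) ^ k ∣ r - 1 := by
      have hz : ∀ e : ℕ, (p : ℤ) ^ k ∣ r ^ e - 1 ↔ ((r : ZMod (p ^ k))) ^ e = 1 := by
        intro e
        have h := ZMod.intCast_zmod_eq_zero_iff_dvd (r ^ e - 1) (p ^ k)
        push_cast at h
        rw [← h, sub_eq_zero]
      have e1 := (hz _).1 h2
      have e2 := (hz _).1 h3
      have e3 := pow_gcd_eq_one.2 ⟨e1, e2⟩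
      rw [(hco.pow_right k).gcd_eq_one] at e3
      simpa using (hz 1).2 e3
    intro y hy
    obtain ⟨j, rfl⟩ := hmem y hy
    rw [hconj, zpow_eq_zpow_iff_modEq, hox, Int.modEq_iff_dvd]
    push_cast
    exact Dvd.intro (-j * ((r - 1) / (p : ℤ) ^ k)) (by
      conv_rhs => rw [show j - r * j = -j * (r - 1) by ring,
        ← Int.mul_ediv_cancel' h4]
      ring)
  · right
    have hc : IsCoprime ((p : ℤ) ^ k) (r - 1) :=
      ((Nat.prime_iff_prime_int.1 hp).coprime_iff_not_dvd.2 hd).pow_left
    obtain ⟨a, b, hab⟩ := hc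
    refine ⟨fun y hy => ?_, fun y hy hfix => ?_⟩
    · obtain ⟨j, rfl⟩ := hmem y hy
      refine ⟨x ^ (b * j), zpow_mem hx _, ?_⟩
      rw [hconj, ← zpow_neg, ← zpow_add, zpow_eq_zpow_iff_modEq, hox, Int.modEq_iff_dvd]
      push_cast
      exact ⟨-(a * j), by linear_combination j * hab⟩
    · obtain ⟨j, rfl⟩ := hmem y hy
      rw [hconj, zpow_eq_zpow_iff_modEq, hox, Int.modEq_iff_dvd] at hfix
      push_cast at hfix
      obtain ⟨c, hc⟩ := hfix
      rw [← orderOf_dvd_iff_zpow_eq_one, hox]
      push_cast
      exact ⟨a * j - b * c, by linear_combination (-j) * hab - b * hc⟩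

variable {p : ℕ} [Fact p.Prime]

/-- With a cyclic Sylow subgroup, commuting elements of order `p` generate the same subgroup. -/
theorem mem_zpowers_of_commute {P : Sylow p G} (hP : IsCyclic (P : Subgroup G)) {x y : G}
    (hx : orderOf x = p) (hy : orderOf y = p) (hxy : Commute x y) : y ∈ zpowers x := by
  have h1 : IsPGroup p (zpowers x) := IsPGroup.of_card (n := 1) (by rw [Nat.card_zpowers, hx, pow_one])
  have h2 : IsPGroup p (zpowers y) := IsPGroup.of_card (n := 1) (by rw [Nat.card_zpowers, hy, pow_one])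
  have h3 : zpowers y ≤ normalizer (zpowers x : Set G) := by
    refine le_trans ?_ (centralizer_le_normalizer _)
    rintro _ ⟨b, rfl⟩
    rw [mem_centralizer_iff]
    rintro _ ⟨a, rfl⟩
    exact ((hxy.zpow_left a).zpow_right b).eq
  have h4 := h1.to_sup_of_normal_left' h2 h3
  obtain ⟨Q, hQ⟩ := h4.exists_le_sylow
  have hQc : IsCyclic (Q : Subgroup G) := isCyclic_of_surjective (Sylow.equiv P Q).toMonoidHom
    (Sylow.equiv P Q).surjective
  exact Fusion.mem_zpowers_of_orderOf_dvd hQc (hQ (mem_sup_right (mem_zpowers y)))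
    (hQ (mem_sup_left (mem_zpowers x))) (by rw [hx, hy])

theorem cyclic_sylow_dichotomy (hp : p ∣ Nat.card G) (hO : Cfsg.pPrimeCore p G = ⊥)
    (P : Sylow p G) (hP : IsCyclic (P : Subgroup G)) :
    ((P : Subgroup G).Normal ∧ centralizer ((P : Subgroup G) : Set G) = (P : Subgroup G) ∧
      (∀ (_ : (P : Subgroup G).Normal), IsCyclic (G ⧸ (P : Subgroup G))) ∧
        (P : Subgroup G).index ∣ p - 1) ∨
    (IsSimpleGroup ↥(Cfsg.generalizedFittingSubgroup G) ∧
      ¬ IsMulCommutative ↥(Cfsg.generalizedFittingSubgroup G) ∧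
      ¬ p ∣ (Cfsg.generalizedFittingSubgroup G).index) := by
  classical
  have hpp : p.Prime := Fact.out
  have : Nontrivial G := Finite.one_lt_card_iff_nontrivial.1
    (lt_of_lt_of_le hpp.one_lt (Nat.le_of_dvd Nat.card_pos hp))
  -- nontrivial normal subgroups contain elements of order `p`
  have hdiv : ∀ M : Subgroup G, M.Normal → M ≠ ⊥ → ∃ z ∈ M, orderOf z = p := by
    intro M hM hMne
    have h : p ∣ Nat.card M := by
      by_contra h
      exact hMne (le_bot_iff.1 (hO ▸ Core.le_pPrimeCore
        ((hpp.coprime_iff_not_dvd.2 h).symm) : M ≤ ⊥))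
    obtain ⟨z, hz⟩ := exists_prime_orderOf_dvd_card' p h
    exact ⟨z, z.2, by rwa [orderOf_coe]⟩
  obtain ⟨N, hN⟩ := Core.exists_isMinNormal (G := G)
  have hNn : N.Normal := hN.normal
  obtain ⟨z, hzN, hz⟩ := hdiv N hNn hN.ne_bot
  have hle : ∀ M : Subgroup G, M.Normal → M ≠ ⊥ → N ≤ M := by
    intro M hM hMne
    refine (hN.le_or_inf_eq_bot M).resolve_right fun h => ?_
    obtain ⟨w, hwM, hw⟩ := hdiv M hM hMne
    have hc : Commute z w := Subgroup.commute_of_normal_of_disjoint N M hNn hM
      (disjoint_iff.2 h) z w hzN hwM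
    have hwN : w ∈ N := zpowers_le.2 hzN (mem_zpowers_of_commute hP hz hw hc)
    have h1 : w ∈ N ⊓ M := ⟨hwN, hwM⟩
    rw [h, mem_bot] at h1
    rw [h1, orderOf_one] at hw
    exact hpp.one_lt.ne hw
  obtain ⟨k, hk⟩ := IsPGroup.iff_card.1 P.isPGroup'
  have hPab : IsMulCommutative (P : Subgroup G) := hP.isMulCommutative
  by_cases hab : IsMulCommutative N
  · -- abelian minimal normal subgroup
    left
    have hNp : IsPGroup p N := by
      have : Group.IsSolvable N := Group.isSolvable_of_comm fun a b => hab.is_comm.comm a b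
      obtain ⟨q, hq, hNq, -⟩ := hN.exists_isPGroup
      have := Fact.mk hq
      obtain ⟨j, hj⟩ := IsPGroup.iff_card.1 hNq
      have h := orderOf_dvd_natCard N hzN
      rw [hz, hj] at h
      rwa [← (Nat.prime_dvd_prime_iff_eq hpp hq).1 (hpp.dvd_of_dvd_pow h)] at hNq
    have hNP : N ≤ (P : Subgroup G) := hNp.le_sylow_of_normal P
    have hNeq : N = zpowers z := by
      have : Group.IsSolvable N := Group.isSolvable_of_comm fun a b => hab.is_comm.comm a b
      obtain ⟨q, hq, hexp⟩ := hN.exists_prime_pow_eq_one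
      refine le_antisymm (fun w hw => ?_) (zpowers_le.2 hzN)
      rcases eq_or_ne w 1 with rfl | hw1
      · exact one_mem _
      · have hqp : q = p := by
          have h := orderOf_dvd_of_pow_eq_one (hexp z hzN)
          rw [hz] at h
          exact ((Nat.prime_dvd_prime_iff_eq hpp hq).1 h).symm
        subst hqp
        exact mem_zpowers_of_commute hP hz (orderOf_eq_prime (hexp w hw) hw1)
          (congrArg Subtype.val (hab.is_comm.comm ⟨z, hzN⟩ ⟨w, hw⟩))
    have hNcard : Nat.card N = p := by rw [hNeq, Nat.card_zpowers, hz]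
    set C := centralizer (N : Set G) with hCdef
    have hPC : (P : Subgroup G) ≤ C :=
      (le_centralizer_iff_isMulCommutative.2 hPab).trans (centralizer_le hNP)
    set PC : Sylow p C := P.subtype hPC with hPCdef
    have hPCc : IsCyclic (PC : Subgroup C) := by
      rw [hPCdef, Sylow.coe_subtype]
      exact isCyclic_of_surjective (subgroupOfEquivOfLe hPC).symm.toMonoidHom
        (subgroupOfEquivOfLe hPC).symm.surjective
    have hPCab : IsMulCommutative (PC : Subgroup C) := hPCc.isMulCommutative
    have hnc : normalizer ((PC : Subgroup C) : Set C) ≤ centralizer ((PC : Subgroup C) : Set C) := by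
      refine Fusion.normalizer_le_centralizer_of_primePow PC hPCab
        fun q hq hqp _ n hn ⟨j, hj⟩ => ?_
      have hco : (orderOf n).Coprime p :=
        (((Nat.coprime_primes hq hpp).2 hqp).pow_left j).coprime_dvd_left hj
      obtain ⟨k', hk'⟩ := IsPGroup.iff_card.1 PC.isPGroup'
      rcases cyclic_fixed_or_fpf hpp hPCc hk' hn hco with h | h
      · exact mem_centralizer_iff.2 fun y hy => (mul_inv_eq_iff_eq_mul.1 (h y hy)).symm
      · have hzP : (⟨z, hPC (hNP hzN)⟩ : C) ∈ (PC : Subgroup C) := by
          rw [hPCdef, Sylow.coe_subtype, mem_subgroupOf]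
          exact hNP hzN
        have h1 := h.2 _ hzP (Subtype.ext (by
          have := mem_centralizer_iff.1 n.2 z hzN
          simp only [Subgroup.coe_mul, Subgroup.coe_inv]
          rw [← this, mul_inv_cancel_right]))
        rw [show z = 1 from congrArg Subtype.val h1, orderOf_one] at hz
        exact absurd hz hpp.one_lt.ne
    obtain ⟨PC', Kc, hKn, hKc⟩ :=
      Fusion.hasNormalPComplement_of_normalizer_le_centralizer (P := PC) hnc
    have hKbot : Kc = ⊥ := by
      have h1 : Kc ≤ Cfsg.pPrimeCore p C := Core.le_pPrimeCore (by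
        rw [← hKc.index_eq_card]
        exact (hpp.coprime_iff_not_dvd.2 PC'.not_dvd_index).symm)
      have h2 : (Cfsg.pPrimeCore p C).map C.subtype ≤ Cfsg.pPrimeCore p G :=
        (Core.map_pPrimeCore_normal C).le.trans inf_le_left
      rw [hO, le_bot_iff, map_eq_bot_iff_of_injective _ C.subtype_injective] at h2
      exact le_bot_iff.1 (h1.trans h2.le)
    have hPCtop : (PC' : Subgroup C) = ⊤ := by
      have := hKc.sup_eq_top
      rwa [hKbot, bot_sup_eq] at this
    have hCP : C = (P : Subgroup G) := by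
      refine (le_antisymm hPC ?_).symm
      have hC : IsPGroup p C := by
        refine IsPGroup.of_surjective ?_ (topEquiv (G := C)).toMonoidHom (topEquiv).surjective
        exact hPCtop ▸ PC'.isPGroup'
      exact (P.is_maximal' hC hPC).le
    have hCn : C.Normal := inferInstance
    have hPn : (P : Subgroup G).Normal := hCP ▸ hCn
    have hcent : centralizer ((P : Subgroup G) : Set G) = (P : Subgroup G) :=
      le_antisymm ((centralizer_le hNP).trans hCP.le) (le_centralizer_iff_isMulCommutative.2 hPab)
    let f : G →* MulAut N := MulAut.conjNormal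
    have hker : f.ker = C := by
      ext g
      rw [MonoidHom.mem_ker, hCdef, mem_centralizer_iff]
      constructor
      · intro h w hw
        have h1 := congrArg Subtype.val (DFunLike.congr_fun h (⟨w, hw⟩ : N))
        simp only [f, MulAut.conjNormal_apply, MulAut.one_apply] at h1
        exact (mul_inv_eq_iff_eq_mul.1 h1).symm
      · intro h
        ext w
        simp only [f, MulAut.conjNormal_apply, MulAut.one_apply]
        rw [← h w w.2, mul_inv_cancel_right]
    have hNc : IsCyclic N := isCyclic_of_prime_card hNcard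
    have hautc : IsCyclic (MulAut N) := by
      have e := IsCyclic.mulAutMulEquiv N
      rw [hNcard] at e
      exact isCyclic_of_surjective e.symm.toMonoidHom e.symm.surjective
    refine ⟨hPn, hcent, fun h => ?_, ?_⟩
    · have : IsCyclic f.range := Subgroup.isCyclic _
      have e1 := QuotientGroup.quotientMulEquivOfEq (hker.trans hCP)
      have e2 := QuotientGroup.quotientKerEquivRange f
      exact isCyclic_of_surjective (e2.symm.trans e1).toMonoidHom (e2.symm.trans e1).surjective
    · rw [← hCP, ← hker, index_ker]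
      refine (card_subgroup_dvd_card _).trans ?_
      rw [IsCyclic.card_mulAut, hNcard, Nat.totient_prime hpp]
  -- nonabelian minimal normal subgroup
  right
  have hCN : centralizer (N : Set G) = ⊥ := by
    by_contra h
    exact hab (le_centralizer_iff_isMulCommutative.1 (hle _ inferInstance h))
  have hsimp : IsSimpleGroup N := by
    have hNnt : Nontrivial N := N.nontrivial_iff_ne_bot.2 hN.ne_bot
    obtain ⟨H, hH⟩ := Core.exists_isMinNormal (G := N)
    have hH' : ∃ w ∈ H, orderOf (w : N) = p := by
      have h : p ∣ Nat.card H := by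
        by_contra h
        have := hH.normal
        have h1 : H ≤ Cfsg.pPrimeCore p N := Core.le_pPrimeCore (hpp.coprime_iff_not_dvd.2 h).symm
        have h2 : (Cfsg.pPrimeCore p N).map N.subtype ≤ Cfsg.pPrimeCore p G :=
          (Core.map_pPrimeCore_normal N).le.trans inf_le_left
        rw [hO, le_bot_iff, map_eq_bot_iff_of_injective _ N.subtype_injective] at h2
        exact hH.ne_bot (le_bot_iff.1 (h1.trans h2.le))
      obtain ⟨w, hw⟩ := exists_prime_orderOf_dvd_card' p h
      exact ⟨w, w.2, by rwa [orderOf_coe]⟩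
    obtain ⟨w, hwH, hw⟩ := hH'
    -- every conjugate of `H` equals `H`
    have hconj : ∀ g : G, ∀ h ∈ H, MulAut.conjNormal g h ∈ H := by
      intro g
      let φ : MulAut N := MulAut.conjNormal g
      have hn : (H.map φ.toMonoidHom).Normal := hH.normal.map _ φ.surjective
      rcases hH.le_or_inf_eq_bot (H.map φ.toMonoidHom) with h | h
      · intro x hx
        have hc : Nat.card (H.map φ.toMonoidHom) ≤ Nat.card H :=
          (card_map_of_injective φ.injective).le
        rw [eq_of_le_of_card_ge h hc]
        exact mem_map_of_mem φ.toMonoidHom hx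
      · exfalso
        have hcw : Commute w (φ w) := Subgroup.commute_of_normal_of_disjoint _ _ hH.normal hn
          (disjoint_iff.2 h) w (φ w) hwH (mem_map_of_mem φ.toMonoidHom hwH)
        have hmem := mem_zpowers_of_commute hP (x := (w : G)) (y := (φ w : G))
          (by rw [orderOf_coe, hw]) (by rw [orderOf_coe, MulEquiv.orderOf_eq, hw])
          (congrArg Subtype.val hcw.eq)
        obtain ⟨j, hj⟩ := hmem
        have h1 : φ w ∈ H ⊓ H.map φ.toMonoidHom :=
          ⟨(show φ w = w ^ j from Subtype.ext (by simpa using hj.symm)) ▸ zpow_mem hwH j,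
            mem_map_of_mem φ.toMonoidHom hwH⟩
        rw [h, mem_bot, EmbeddingLike.map_eq_one_iff] at h1
        rw [h1, orderOf_one] at hw
        exact hpp.one_lt.ne hw
    have hHn : (H.map N.subtype).Normal := ⟨by
      rintro _ ⟨x, hx, rfl⟩ g
      exact ⟨_, hconj g x hx, by simp⟩⟩
    have htop : H = ⊤ := by
      have h1 := hle _ hHn (fun h => hH.ne_bot
        ((map_eq_bot_iff_of_injective _ N.subtype_injective).1 h))
      refine eq_top_iff.2 fun x _ => ?_
      obtain ⟨y, hy, he⟩ := h1 x.2
      rwa [← Subtype.ext he]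
    refine ⟨fun M hM => ?_⟩
    have := hM
    rcases eq_or_ne M ⊥ with h | h
    · exact Or.inl h
    · rcases hH.le_or_inf_eq_bot M with h' | h'
      · exact Or.inr (top_le_iff.1 (htop ▸ h'))
      · rw [htop, top_inf_eq] at h'
        exact absurd h' h
  have hnsol : ¬ Group.IsSolvable N := fun h => hab hN.isMulCommutative
  -- `p` does not divide the index
  have hPN : (P : Subgroup G) ≤ N := by
    set L := N ⊔ (P : Subgroup G) with hL
    set PL : Sylow p L := P.subtype le_sup_right with hPLdef
    have hPLc : IsCyclic (PL : Subgroup L) := by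
      rw [hPLdef, Sylow.coe_subtype]
      exact isCyclic_of_surjective (subgroupOfEquivOfLe le_sup_right).symm.toMonoidHom
        (subgroupOfEquivOfLe le_sup_right).symm.surjective
    by_contra hnot
    have hL' : commutator L ≤ N.subgroupOf L := by
      have hn : (N.subgroupOf L).Normal := inferInstance
      set π := QuotientGroup.mk' (N.subgroupOf L)
      have hsur : Function.Surjective (π.comp (inclusion (le_sup_right : (P : Subgroup G) ≤ L))) := by
        intro q
        obtain ⟨⟨g, hg⟩, rfl⟩ := QuotientGroup.mk'_surjective (N.subgroupOf L) q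
        have hg' : g ∈ (N : Set G) * ((P : Subgroup G) : Set G) := by
          rw [← normal_mul]; exact hg
        obtain ⟨a, ha, b, hb, rfl⟩ := hg'
        refine ⟨⟨b, hb⟩, ?_⟩
        refine (QuotientGroup.eq).2 ?_
        rw [mem_subgroupOf]
        simpa [mul_assoc] using hn.conj_mem (⟨a, mem_sup_left ha⟩ : L) (mem_subgroupOf.2 ha)
          (⟨b, mem_sup_right hb⟩ : L)⁻¹ |> mem_subgroupOf.1
      refine Subgroup.commutator_le.2 fun a _ b _ => ?_
      obtain ⟨a', ha'⟩ := hsur (π a)
      obtain ⟨b', hb'⟩ := hsur (π b)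
      rw [← QuotientGroup.eq_one_iff]
      show π ⁅a, b⁆ = 1
      rw [map_commutatorElement, ← ha', ← hb', ← map_commutatorElement,
        commutatorElement_eq_one_iff_mul_comm.2 (hPab.is_comm.comm a' b'), map_one]
    have hnc : normalizer ((PL : Subgroup L) : Set L) ≤ centralizer ((PL : Subgroup L) : Set L) := by
      refine Fusion.normalizer_le_centralizer_of_primePow PL hPLc.isMulCommutative
        fun q hq hqp _ n hn ⟨j, hj⟩ => ?_
      have hco : (orderOf n).Coprime p :=
        (((Nat.coprime_primes hq hpp).2 hqp).pow_left j).coprime_dvd_left hj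
      obtain ⟨k', hk'⟩ := IsPGroup.iff_card.1 PL.isPGroup'
      rcases cyclic_fixed_or_fpf hpp hPLc hk' hn hco with h | h
      · exact mem_centralizer_iff.2 fun y hy => (mul_inv_eq_iff_eq_mul.1 (h y hy)).symm
      · refine absurd (fun y hy => ?_) hnot
        obtain ⟨w, -, hw⟩ := h.1 ⟨y, mem_sup_right hy⟩ (by
          rw [hPLdef, Sylow.coe_subtype, mem_subgroupOf]; exact hy)
        have h1 : (⟨y, mem_sup_right hy⟩ : L) ∈ commutator L :=
          hw ▸ commutator_mem_commutator (mem_top _) (mem_top _)
        exact mem_subgroupOf.1 (hL' h1)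
    obtain ⟨PL', Kc, hKn, hKc⟩ :=
      Fusion.hasNormalPComplement_of_normalizer_le_centralizer (P := PL) hnc
    have hKcard : ¬ p ∣ Nat.card Kc := by
      rw [← hKc.index_eq_card]
      exact PL'.not_dvd_index
    have hNL : N ≤ L := le_sup_left
    have hinf : Kc ⊓ N.subgroupOf L = ⊥ := by
      have hn2 : ((Kc ⊓ N.subgroupOf L).map L.subtype).subgroupOf N |>.Normal := ⟨fun x hx g => by
        rw [mem_subgroupOf] at hx ⊢
        obtain ⟨y, hy, hyx⟩ := hx
        refine ⟨⟨g, hNL g.2⟩ * y * ⟨g, hNL g.2⟩⁻¹,
          (inferInstance : (Kc ⊓ N.subgroupOf L).Normal).conj_mem y hy _, ?_⟩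
        simp only [coe_subtype] at hyx
        simp [hyx]⟩
      rcases hsimp.eq_bot_or_eq_top_of_normal _ hn2 with h | h
      · rw [subgroupOf_eq_bot, disjoint_iff] at h
        have h1 : (Kc ⊓ N.subgroupOf L).map L.subtype ≤ N := by
          rintro _ ⟨y, hy, rfl⟩; exact mem_subgroupOf.1 hy.2
        rw [inf_eq_left.2 h1, map_eq_bot_iff_of_injective _ L.subtype_injective] at h
        exact h
      · exfalso
        rw [subgroupOf_eq_top] at h
        apply hKcard
        have h2 : p ∣ Nat.card ((Kc ⊓ N.subgroupOf L).map L.subtype) :=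
          hz ▸ orderOf_dvd_natCard _ (h hzN)
        rw [card_map_of_injective L.subtype_injective] at h2
        exact h2.trans (card_dvd_of_le inf_le_left)
    have hKC : Kc.map L.subtype ≤ centralizer (N : Set G) := by
      rintro _ ⟨y, hy, rfl⟩
      refine mem_centralizer_iff.2 fun w hw => ?_
      have := Subgroup.commute_of_normal_of_disjoint Kc (N.subgroupOf L) hKn inferInstance
        (disjoint_iff.2 hinf) y ⟨w, hNL hw⟩ hy (mem_subgroupOf.2 hw)
      exact congrArg Subtype.val this.eq.symm
    rw [hCN, le_bot_iff, map_eq_bot_iff_of_injective _ L.subtype_injective] at hKC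
    have hPLtop : (PL' : Subgroup L) = ⊤ := by
      have := hKc.sup_eq_top
      rwa [hKC, bot_sup_eq] at this
    have hLp : IsPGroup p L := IsPGroup.of_surjective (hPLtop ▸ PL'.isPGroup')
      (topEquiv (G := L)).toMonoidHom topEquiv.surjective
    have := (hLp.to_le hNL).isNilpotent
    exact hnsol inferInstance
  have hF : Cfsg.generalizedFittingSubgroup G = N := by
    have hNnt : Nontrivial N := hsimp.toNontrivial
    have hqs : IsQuasisimple N := Layer.isQuasisimple_of_normal_cases
      ⟨(hsimp.eq_bot_or_eq_top_of_normal (commutator N) inferInstance).resolve_left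
        (fun h : commutator N = ⊥ => hab ⟨⟨fun a b => by
          have h1 : ⁅a, b⁆ ∈ commutator N := commutator_mem_commutator (mem_top a) (mem_top b)
          rw [h, mem_bot] at h1
          exact commutatorElement_eq_one_iff_mul_comm.1 h1⟩⟩)⟩
      fun M hM => (hsimp.eq_bot_or_eq_top_of_normal M hM).symm.imp id
        fun (h : M = ⊥) => h.le.trans bot_le
    have hcomp : IsComponent N := ⟨hNn.isSubnormal, hqs⟩
    have hfit : Cfsg.fittingSubgroup G = ⊥ := by
      by_contra h
      have h1 := hle _ inferInstance h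
      have : Group.IsNilpotent N :=
        Group.nilpotent_of_mulEquiv (subgroupOfEquivOfLe h1)
      exact hnsol inferInstance
    rw [Cfsg.generalizedFittingSubgroup, hfit, sup_bot_eq, Cfsg.layer]
    refine le_antisymm (sSup_le fun M hM => ?_) (le_sSup hcomp)
    by_contra hMN
    have h1 := Layer.components_commute hM hcomp fun h => hMN h.le
    rw [commutator_eq_bot_iff_le_centralizer, hCN, le_bot_iff] at h1
    exact hMN (h1 ▸ bot_le)
  rw [hF]
  exact ⟨hsimp, hab, fun h => P.not_dvd_index (h.trans (index_dvd_of_le hPN))⟩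

end Cfsg.Agent.Fg24
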