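import Mathlib
import Cfsg.Agent.Fusion.UniqueInvolution

/-!
Finite groups in which every subgroup is normal.
Two elements of prime power order commute unless both have 2-power order, and then a quaternion
pair of elements of order 4 exists.
-/

set_option autoImplicit false

namespace Cfsg.Agent.Fg24.Dedekind

variable {G : Type*} [Group G]

theorem pow_mul_of_conj {v y d : G} (hd : v * y = d * (y * v)) (hdy : Commute d y)
    (hdv : Commute d v) : ∀ N : ℕ, (y * v) ^ N = d ^ (N.choose 2) * (y ^ N * v ^ N) := by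
  have hvN : ∀ N : ℕ, v ^ N * y = d ^ N * (y * v ^ N) := by
    intro N
    induction N with
    | zero => simp
    | succ k ih =>
      calc v ^ (k + 1) * y = v * (v ^ k * y) := by rw [pow_succ']; group
        _ = v * d ^ k * (y * v ^ k) := by rw [ih]; group
        _ = d ^ k * (v * y) * v ^ k := by rw [← (hdv.pow_left k).eq]; group
        _ = d ^ k * (d * (y * v)) * v ^ k := by rw [hd]
        _ = d ^ (k + 1) * (y * v ^ (k + 1)) := by rw [pow_succ, pow_succ']; group
  intro N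
  induction N with
  | zero => simp
  | succ k ih =>
    have hc : (k + 1).choose 2 = k.choose 2 + k := by
      rw [Nat.choose_succ_succ, Nat.choose_one_right]; ring
    calc (y * v) ^ (k + 1) = d ^ (k.choose 2) * (y ^ k * (v ^ k * y) * v) := by
          rw [pow_succ, ih]; group
      _ = d ^ (k.choose 2) * (y ^ k * d ^ k * (y * v ^ k) * v) := by rw [hvN]; group
      _ = d ^ (k.choose 2) * (d ^ k * y ^ k * (y * v ^ k) * v) := by
          rw [(hdy.pow_pow k k).eq]
      _ = _ := by rw [hc, pow_add, pow_succ y, pow_succ v]; group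

theorem commutator_mem (hn : ∀ H : Subgroup G, H.Normal) (x y : G) :
    x * y * x⁻¹ * y⁻¹ ∈ Subgroup.zpowers x ∧ x * y * x⁻¹ * y⁻¹ ∈ Subgroup.zpowers y := by
  constructor
  · have h := (hn (Subgroup.zpowers x)).conj_mem _ (inv_mem (Subgroup.mem_zpowers x)) y
    have h' := Subgroup.mul_mem _ (Subgroup.mem_zpowers x) h
    rwa [show x * y * x⁻¹ * y⁻¹ = x * (y * x⁻¹ * y⁻¹) by group]
  · have h := (hn (Subgroup.zpowers y)).conj_mem _ (Subgroup.mem_zpowers y) x
    exact Subgroup.mul_mem _ h (inv_mem (Subgroup.mem_zpowers y))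

theorem commute_of_coprime [Finite G] (hn : ∀ H : Subgroup G, H.Normal) {x y : G}
    (h : (orderOf x).Coprime (orderOf y)) : Commute x y := by
  obtain ⟨h1, h2⟩ := commutator_mem hn x y
  have hd : Disjoint (Subgroup.zpowers x) (Subgroup.zpowers y) := by
    rw [disjoint_iff]
    refine Subgroup.inf_eq_bot_of_coprime ?_
    rwa [Nat.card_zpowers, Nat.card_zpowers]
  exact commutatorElement_eq_one_iff_mul_comm.1 (Subgroup.mem_bot.1 (hd.le_bot ⟨h1, h2⟩))

/-- In a cyclic group of prime power order, an element of order dividing `p` is a power of the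
standard one. -/
theorem mem_zpowers_pow_of_pow_prime {p : ℕ} (hp : p.Prime) {x c : G} {a : ℕ}
    (hx : orderOf x = p ^ (a + 1)) (hc : c ∈ Subgroup.zpowers x) (hcp : c ^ p = 1) :
    c ∈ Subgroup.zpowers (x ^ p ^ a) := by
  obtain ⟨i, rfl⟩ := hc
  rw [← zpow_natCast, ← zpow_mul, ← orderOf_dvd_iff_zpow_eq_one, hx] at hcp
  push_cast at hcp
  rw [pow_succ] at hcp
  obtain ⟨s, hs⟩ := (mul_dvd_mul_iff_right (by exact_mod_cast hp.ne_zero)).1 hcp
  refine ⟨s, ?_⟩
  simp only [hs, zpow_mul, ← Nat.cast_pow, zpow_natCast]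

theorem exists_quaternion_pair [Finite G] (hn : ∀ H : Subgroup G, H.Normal) {p : ℕ}
    (hp : p.Prime) : ∀ (N a b : ℕ) (x y : G), a + b = N → orderOf x ∣ p ^ a → orderOf y ∣ p ^ b →
      ¬ Commute x y → p = 2 ∧ ∃ u v : G, orderOf u = 4 ∧ u ^ 2 = v ^ 2 ∧ v⁻¹ * u * v = u⁻¹ := by
  intro N
  induction N using Nat.strong_induction_on with
  | _ N ih =>
  intro a b x y hN hxa hyb hne
  subst hN
  wlog hba : b ≤ a generalizing a b x y
  · exact this b a y x hyb hxa (fun h => hne h.symm) (fun M hM => ih M (by omega)) (by omega)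
  obtain ⟨a, rfl⟩ : ∃ a', a = a' + 1 := by
    refine ⟨a - 1, ?_⟩
    rcases Nat.eq_zero_or_pos a with rfl | h
    · rw [pow_zero, Nat.dvd_one, orderOf_eq_one_iff] at hxa
      subst hxa
      exact absurd (Commute.one_left y) hne
    · omega
  obtain ⟨b, rfl⟩ : ∃ b', b = b' + 1 := by
    refine ⟨b - 1, ?_⟩
    rcases Nat.eq_zero_or_pos b with rfl | h
    · rw [pow_zero, Nat.dvd_one, orderOf_eq_one_iff] at hyb
      subst hyb
      exact absurd (Commute.one_right x) hne
    · omega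
  have hdesc : ∀ (z : G) (k : ℕ), orderOf z ∣ p ^ (k + 1) → orderOf (z ^ p) ∣ p ^ k := by
    intro z k h
    rw [orderOf_dvd_iff_pow_eq_one, ← pow_mul, ← pow_succ']
    exact orderOf_dvd_iff_pow_eq_one.1 h
  by_cases hxp : Commute (x ^ p) y
  swap
  · exact ih (a + (b + 1)) (by omega) a (b + 1) _ _ rfl (hdesc x a hxa) hyb hxp
  by_cases hyp : Commute x (y ^ p)
  swap
  · exact ih (a + 1 + b) (by omega) (a + 1) b _ _ rfl hxa (hdesc y b hyb) hyp
  by_cases hxe : orderOf x ∣ p ^ a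
  · exact ih (a + (b + 1)) (by omega) a (b + 1) _ _ rfl hxe hyb hne
  by_cases hye : orderOf y ∣ p ^ b
  · exact ih (a + 1 + b) (by omega) (a + 1) b _ _ rfl hxa hye hne
  have hexact : ∀ (z : G) (k : ℕ), orderOf z ∣ p ^ (k + 1) → ¬ orderOf z ∣ p ^ k →
      orderOf z = p ^ (k + 1) := by
    intro z k h h'
    obtain ⟨j, hj, hj'⟩ := (Nat.dvd_prime_pow hp).1 h
    rw [hj'] at h' ⊢
    rcases Nat.lt_or_ge j (k + 1) with hlt | hge
    · exact absurd (pow_dvd_pow p (by omega)) h'
    · rw [show j = k + 1 by omega]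
  have hxo := hexact x a hxa hxe
  have hyo := hexact y b hyb hye
  set c := x * y * x⁻¹ * y⁻¹ with hc
  obtain ⟨hcx, hcy⟩ := commutator_mem hn x y
  rw [← hc] at hcx hcy
  have hc1 : c ≠ 1 := fun h => hne (commutatorElement_eq_one_iff_mul_comm.1 h)
  have hcX : Commute c x := by
    obtain ⟨i, hi⟩ := hcx
    rw [← hi]
    exact Commute.zpow_self x i
  have hcY : Commute c y := by
    obtain ⟨i, hi⟩ := hcy
    rw [← hi]
    exact Commute.zpow_self y i
  have hconj : ∀ k : ℕ, x ^ k * y = c ^ k * (y * x ^ k) := by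
    intro k
    induction k with
    | zero => simp
    | succ k hk =>
      calc x ^ (k + 1) * y = x * (x ^ k * y) := by rw [pow_succ']; group
        _ = x * c ^ k * (y * x ^ k) := by rw [hk]; group
        _ = c ^ k * (x * y) * x ^ k := by rw [← (hcX.pow_left k).eq]; group
        _ = c ^ k * (c * (y * x)) * x ^ k := by rw [show x * y = c * (y * x) by rw [hc]; group]
        _ = c ^ (k + 1) * (y * x ^ (k + 1)) := by rw [pow_succ, pow_succ']; group
  have hcp : c ^ p = 1 := by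
    have h := hconj p
    rw [hxp.eq] at h
    exact mul_eq_right.1 h.symm
  have hcX' := mem_zpowers_pow_of_pow_prime hp hxo hcx hcp
  have hcY' := mem_zpowers_pow_of_pow_prime hp hyo hcy hcp
  have hordX : orderOf (x ^ p ^ a) = p := by
    rw [orderOf_pow' _ (pow_ne_zero _ hp.ne_zero), hxo,
      Nat.gcd_eq_right (pow_dvd_pow p (by omega)), pow_succ,
      Nat.mul_div_cancel_left _ (pow_pos hp.pos _)]
  have hordY : orderOf (y ^ p ^ b) = p := by
    rw [orderOf_pow' _ (pow_ne_zero _ hp.ne_zero), hyo,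
      Nat.gcd_eq_right (pow_dvd_pow p (by omega)), pow_succ,
      Nat.mul_div_cancel_left _ (pow_pos hp.pos _)]
  have hoc : orderOf c = p := by
    haveI := Fact.mk hp
    exact orderOf_eq_prime hcp hc1
  have hgen : Subgroup.zpowers c = Subgroup.zpowers (x ^ p ^ a) ∧
      Subgroup.zpowers c = Subgroup.zpowers (y ^ p ^ b) := by
    constructor <;> apply Subgroup.eq_of_le_of_card_ge
    · rwa [Subgroup.zpowers_le]
    · rw [Nat.card_zpowers, Nat.card_zpowers, hoc, hordX]
    · rwa [Subgroup.zpowers_le]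
    · rw [Nat.card_zpowers, Nat.card_zpowers, hoc, hordY]
  obtain ⟨r, hr⟩ : y ^ p ^ b ∈ Subgroup.zpowers (x ^ p ^ a) :=
    hgen.1 ▸ hgen.2 ▸ Subgroup.mem_zpowers _
  by_cases hb0 : b = 0
  · exfalso
    subst hb0
    simp only [pow_zero, pow_one] at hr
    refine hne ?_
    rw [← hr]
    exact ((Commute.refl x).pow_right _).zpow_right r
  set v := x ^ (-(r * (p ^ (a - b) : ℕ))) with hv
  have hvN : v ^ p ^ b = (y ^ p ^ b)⁻¹ := by
    have he : ((p ^ (a - b) : ℕ) : ℤ) * ((p ^ b : ℕ) : ℤ) = ((p ^ a : ℕ) : ℤ) := by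
      rw [← Nat.cast_mul, ← pow_add, Nat.sub_add_cancel (by omega)]
    rw [← hr, hv, ← zpow_natCast (x ^ (-(r * ((p ^ (a - b) : ℕ) : ℤ)))) (p ^ b), ← zpow_mul,
      neg_mul, mul_assoc, he, zpow_neg, mul_comm, zpow_mul, zpow_natCast]
  have hvX : Commute v x := Commute.zpow_self x _
  set d := v * y * v⁻¹ * y⁻¹ with hd
  have hdc : d ∈ Subgroup.zpowers c := by
    obtain ⟨k, hk⟩ : v ∈ Submonoid.powers x :=
      mem_powers_iff_mem_zpowers.2 ⟨_, rfl⟩
    simp only at hk
    refine ⟨k, ?_⟩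
    simp only
    rw [zpow_natCast, hd, ← hk, hconj k]
    group
  have hdy : Commute d y := by
    obtain ⟨i, hi⟩ := hdc
    rw [← hi]
    exact hcY.zpow_left i
  have hdv : Commute d v := by
    obtain ⟨i, hi⟩ := hdc
    rw [← hi]
    exact (hcX.zpow_right _).zpow_left i
  by_cases hD : d ^ ((p ^ b).choose 2) = 1
  · refine ih (a + 1 + b) (by omega) (a + 1) b x (y * v) rfl hxa ?_ ?_
    · rw [orderOf_dvd_iff_pow_eq_one,
        pow_mul_of_conj (show v * y = d * (y * v) by rw [hd]; group) hdy hdv, hD, hvN]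
      simp
    · intro h
      apply hne
      have h' := h.mul_right hvX.symm.inv_right
      rwa [mul_inv_cancel_right] at h'
  -- the exceptional case
  have hdp : d ^ p = 1 := by
    obtain ⟨i, hi⟩ := hdc
    rw [← hi, ← zpow_natCast, ← zpow_mul, mul_comm, zpow_mul, zpow_natCast, hcp, one_zpow]
  have hndvd : ¬ p ∣ (p ^ b).choose 2 := fun ⟨k, hk⟩ => hD (by rw [hk, pow_mul, hdp, one_pow])
  have hp2 : p = 2 ∧ b = 1 := by
    obtain ⟨b, rfl⟩ : ∃ b', b = b' + 1 := ⟨b - 1, by omega⟩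
    by_contra h
    apply hndvd
    rw [Nat.choose_two_right]
    by_cases hp2 : p = 2
    · subst hp2
      obtain ⟨b, rfl⟩ : ∃ b', b = b' + 1 := ⟨b - 1, by
        rcases Nat.eq_zero_or_pos b with rfl | h'
        · exact absurd ⟨rfl, rfl⟩ h
        · omega⟩
      refine ⟨2 ^ b * (2 ^ (b + 1 + 1) - 1), ?_⟩
      rw [show 2 ^ (b + 1 + 1) * (2 ^ (b + 1 + 1) - 1) =
        2 * (2 * (2 ^ b * (2 ^ (b + 1 + 1) - 1))) by ring, Nat.mul_div_cancel_left _ (by norm_num)]
    · have h2 : 2 ∣ p ^ (b + 1) - 1 := by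
        have := (hp.odd_of_ne_two hp2).pow (n := b + 1)
        obtain ⟨k, hk⟩ := this
        exact ⟨k, by omega⟩
      rw [Nat.mul_div_assoc _ h2]
      exact dvd_mul_of_dvd_left (dvd_pow_self p (by omega)) _
  obtain ⟨rfl, rfl⟩ := hp2
  have hab : a = 1 := by
    by_contra hne1
    -- then the correcting element is an even power of `x`
    apply hD
    have : d = 1 := by
      have hcomm : Commute v y := by
        have hx2 : v = (x ^ 2) ^ (-(r * (2 ^ (a - 2) : ℕ))) := by
          rw [hv, ← zpow_natCast x 2, ← zpow_mul]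
          congr 1
          push_cast
          rw [show a - 1 = a - 2 + 1 by omega, pow_succ]
          ring
        rw [hx2]
        exact hxp.zpow_left _
      rw [hd, hcomm.eq]
      group
    rw [this, one_pow]
  subst hab
  refine ⟨rfl, x, y, by simpa using hxo, ?_, ?_⟩
  · have h2 : ∀ z : G, c ∈ Subgroup.zpowers z → orderOf z = 2 → c = z := by
      intro z ⟨i, hi⟩ hz
      rw [← hi] at hc1 ⊢
      simp only at hc1 ⊢
      rw [← zpow_mod_orderOf, hz] at hc1 ⊢
      rcases Int.emod_two_eq_zero_or_one i with h | h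
      · rw [Nat.cast_ofNat, h, zpow_zero] at hc1; exact absurd rfl hc1
      · rw [Nat.cast_ofNat, h, zpow_one]
    rw [← h2 (x ^ 2) (by simpa using hcX') (by simpa using hordX)]
    exact h2 (y ^ 2) (by simpa using hcY') (by simpa using hordY)
  · have hcx2 : c = x ^ 2 := by
      obtain ⟨i, hi⟩ := hcX'
      simp only [pow_one] at hi hordX
      rw [← hi] at hc1 ⊢
      rw [← zpow_mod_orderOf, hordX] at hc1 ⊢
      rcases Int.emod_two_eq_zero_or_one i with h | h
      · rw [Nat.cast_ofNat, h, zpow_zero] at hc1; exact absurd rfl hc1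
      · rw [Nat.cast_ofNat, h, zpow_one]
    have h4 : x⁻¹ * y * x = x ^ 2 * y := by
      have hx4 : x ^ 4 = 1 := by
        have := pow_orderOf_eq_one x
        rwa [hxo] at this
      have h1 : x * y * x⁻¹ = x ^ 2 * y := by rw [← hcx2, hc]; group
      have h2 : x⁻¹ * (x * y * x⁻¹) * x = y := by group
      rw [h1] at h2
      calc x⁻¹ * y * x = x ^ 2 * (x⁻¹ * (x ^ 2 * y) * x) * (x⁻¹ * x) * 1 := by
            rw [show x ^ 2 * (x⁻¹ * (x ^ 2 * y) * x) * (x⁻¹ * x) * 1 = x ^ 4 * (x⁻¹ * y * x) by group,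
              hx4, one_mul]
        _ = _ := by rw [h2]; group
    calc y⁻¹ * x * y = x * (x⁻¹ * y⁻¹ * x) * y := by group
      _ = x * (x⁻¹ * y * x)⁻¹ * y := by group
      _ = x * (x ^ 2 * y)⁻¹ * y := by rw [h4]
      _ = x * (y⁻¹ * (x ^ 2)⁻¹ * y) := by group
      _ = x * (x ^ 2)⁻¹ := by
          rw [← inv_pow, inv_pow, (hxp.inv_left.symm.inv_left).eq]; group
      _ = x⁻¹ := by group

theorem exists_quaternion [Finite G] (hn : ∀ H : Subgroup G, H.Normal) {u v : G}
    (hu : orderOf u = 4) (huv : u ^ 2 = v ^ 2) (hconj : v⁻¹ * u * v = u⁻¹) :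
    ∃ Q : Subgroup G, Nonempty (Q ≃* QuaternionGroup 2) ∧ u ∈ Q ∧ v ∈ Q ∧
      (∀ g ∈ Q, g ∈ Subgroup.zpowers u ∨ v⁻¹ * g ∈ Subgroup.zpowers u) ∧ v ∉ Subgroup.zpowers u := by
  haveI := hn (Subgroup.zpowers u)
  have hvn : v ∉ Subgroup.zpowers u := by
    rintro ⟨i, hi⟩
    rw [← hi, ((Commute.refl u).zpow_left i).inv_left.eq, mul_assoc] at hconj
    simp only [inv_mul_cancel, mul_one] at hconj
    have h : u ^ 2 = 1 := by rw [sq]; nth_rw 1 [hconj]; simp
    have := orderOf_dvd_of_pow_eq_one h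
    rw [hu] at this
    norm_num at this
  set Q := Subgroup.zpowers u ⊔ Subgroup.zpowers v with hQ
  have huQ : u ∈ Q := Subgroup.mem_sup_left (Subgroup.mem_zpowers u)
  have hvQ : v ∈ Q := Subgroup.mem_sup_right (Subgroup.mem_zpowers v)
  have hcover : ∀ g ∈ Q, g ∈ Subgroup.zpowers u ∨ v⁻¹ * g ∈ Subgroup.zpowers u := by
    intro g hg
    obtain ⟨p, hp, q, ⟨j, rfl⟩, rfl⟩ := Subgroup.mem_sup_of_normal_left.1 hg
    rcases Int.even_or_odd' j with ⟨k, rfl | rfl⟩
    · left
      refine mul_mem hp ?_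
      simp only [zpow_mul]
      rw [show v ^ (2 : ℤ) = u ^ (2 : ℕ) by rw [huv]; exact zpow_natCast v 2]
      exact zpow_mem (pow_mem (Subgroup.mem_zpowers u) 2) k
    · right
      have h2 : v⁻¹ * p * v ∈ Subgroup.zpowers u := by
        have := (hn (Subgroup.zpowers u)).conj_mem p hp v⁻¹
        rwa [inv_inv] at this
      have h3 : v ^ (2 * k) ∈ Subgroup.zpowers u := by
        rw [zpow_mul, show v ^ (2 : ℤ) = u ^ (2 : ℕ) by rw [huv]; exact zpow_natCast v 2]
        exact zpow_mem (pow_mem (Subgroup.mem_zpowers u) 2) k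
      have := mul_mem h2 h3
      simp only
      rwa [show v⁻¹ * (p * v ^ (2 * k + 1)) = v⁻¹ * p * v * v ^ (2 * k) by
        rw [add_comm, zpow_add, zpow_one]; group]
  refine ⟨Q, ?_, huQ, hvQ, hcover, hvn⟩
  refine Cfsg.Agent.Fusion.nonempty_mulEquiv_quaternion (G := ↥Q) 2 (a := ⟨u, huQ⟩) (g := ⟨v, hvQ⟩)
    (by rw [Subgroup.orderOf_mk, hu]) (Subtype.ext ?_) (Subtype.ext ?_) ?_ ?_
  · push_cast; rw [huv, sq]
  · push_cast; exact hconj
  · rintro ⟨i, hi⟩
    exact hvn ⟨i, by simpa using congrArg Subtype.val hi⟩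
  · rintro ⟨g, hg⟩
    rcases hcover g hg with ⟨i, hi⟩ | ⟨i, hi⟩
    · exact Or.inl ⟨i, Subtype.ext (by push_cast; exact hi)⟩
    · exact Or.inr ⟨i, Subtype.ext (by push_cast; exact hi)⟩

end Cfsg.Agent.Fg24.Dedekind
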