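import Mathlib

/-!
The Krull–Schmidt theorem for finite groups, by Fitting's lemma for normal endomorphisms.
-/

set_option autoImplicit false

namespace Cfsg.Agent.Fg24.KrullSchmidt

universe u v

/-- A group is directly indecomposable. -/
def Indec (G : Type*) [Group G] : Prop :=
  ∀ H K : Subgroup G, H.Normal → K.Normal → H ⊓ K = ⊥ → H ⊔ K = ⊤ → H = ⊥ ∨ K = ⊥

/-- A normal endomorphism commutes with all inner automorphisms. -/
def NormalEnd {G : Type*} [Group G] (f : G →* G) : Prop :=
  ∀ a x : G, f (a * x * a⁻¹) = a * f x * a⁻¹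

/-- Fitting's lemma: a normal endomorphism of an indecomposable finite group is bijective or has
no fixed points apart from the identity. -/
theorem fitting {G : Type*} [Group G] [Finite G] (hG : Indec G) (f : G →* G) (hf : NormalEnd f) :
    Function.Bijective f ∨ ∀ x, f x = x → x = 1 := by
  classical
  -- an idempotent power
  have hit : ∀ k : ℕ, ∀ a x : G, f^[k] (a * x * a⁻¹) = a * f^[k] x * a⁻¹ := by
    intro k
    induction k with
    | zero => intros; rfl
    | succ k ih => intro a x; rw [Function.iterate_succ_apply', Function.iterate_succ_apply', ih, hf]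
  obtain ⟨n, hn, hidem⟩ : ∃ n : ℕ, 0 < n ∧ ∀ x : G, f^[n] (f^[n] x) = f^[n] x := by
    obtain ⟨a, b, hab, heq⟩ := Finite.exists_ne_map_eq_of_infinite (fun k : ℕ => f^[k])
    wlog hlt : a < b generalizing a b
    · exact this b a hab.symm heq.symm (by omega)
    have hper : ∀ k, a ≤ k → ∀ t : ℕ, f^[k + t * (b - a)] = f^[k] := by
      intro k hk t
      induction t with
      | zero => simp
      | succ t ih =>
        rw [show k + (t + 1) * (b - a) = (k - a + t * (b - a)) + b by rw [add_mul]; omega,
          Function.iterate_add, ← show f^[a] = f^[b] from heq, ← Function.iterate_add,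
          show k - a + t * (b - a) + a = k + t * (b - a) by omega]
        exact ih
    refine ⟨(a + 1) * (b - a), Nat.mul_pos (by omega) (by omega), fun x => ?_⟩
    have hle : a ≤ (a + 1) * (b - a) := by
      calc a ≤ (a + 1) * 1 := by omega
        _ ≤ _ := Nat.mul_le_mul_left _ (by omega)
    rw [← Function.iterate_add_apply, hper _ hle (a + 1)]
  let e : G →* G := MonoidHom.mk' (f^[n]) (iterate_map_mul f n)
  have hker : e.ker.Normal := inferInstance
  have hran : e.range.Normal := ⟨by
    rintro _ ⟨x, rfl⟩ g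
    exact ⟨g * x * g⁻¹, hit n g x⟩⟩
  have hinf : e.ker ⊓ e.range = ⊥ := by
    rw [eq_bot_iff]
    rintro _ ⟨hk, x, rfl⟩
    have h1 : f^[n] (f^[n] x) = 1 := hk
    rw [hidem] at h1
    exact Subgroup.mem_bot.2 h1
  have hsup : e.ker ⊔ e.range = ⊤ := by
    rw [eq_top_iff]
    intro g _
    have hk : g * (e g)⁻¹ ∈ e.ker := by
      rw [MonoidHom.mem_ker, map_mul, map_inv]
      show f^[n] g * (f^[n] (f^[n] g))⁻¹ = 1
      rw [hidem, mul_inv_cancel]
    have := mul_mem (Subgroup.mem_sup_left (T := e.range) hk)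
      (Subgroup.mem_sup_right (S := e.ker) (⟨g, rfl⟩ : e g ∈ e.range))
    rwa [inv_mul_cancel_right] at this
  rcases hG _ _ hker hran hinf hsup with h | h
  · left
    have hinj : Function.Injective (f^[n]) := (MonoidHom.ker_eq_bot_iff e).1 h
    obtain ⟨k, rfl⟩ : ∃ k, n = k + 1 := ⟨n - 1, by omega⟩
    rw [Function.iterate_succ] at hinj
    exact Finite.injective_iff_bijective.1 hinj.of_comp
  · refine Or.inr fun x hx => ?_
    have h1 : f^[n] x = x := Function.iterate_fixed hx n
    have h2 : e x ∈ e.range := ⟨x, rfl⟩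
    rw [h, Subgroup.mem_bot] at h2
    rw [← h1]; exact h2

/-- If a product of two normal endomorphisms is bijective, then one of them is. -/
theorem bijective_of_mul {G : Type*} [Group G] [Finite G] (hG : Indec G) (f g w : G →* G)
    (hf : NormalEnd f) (hw : NormalEnd w) (hmul : ∀ x, w x = f x * g x)
    (hbij : Function.Bijective w) : Function.Bijective f ∨ Function.Bijective g := by
  let W := MulEquiv.ofBijective w hbij
  have hW : ∀ a x : G, W.symm (a * x * a⁻¹) = a * W.symm x * a⁻¹ := by
    intro a x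
    apply W.injective
    rw [W.apply_symm_apply]
    show _ = w (a * W.symm x * a⁻¹)
    rw [hw, show w (W.symm x) = x from W.apply_symm_apply x]
  rcases fitting hG (W.symm.toMonoidHom.comp f) (fun a x => by
    show W.symm (f (a * x * a⁻¹)) = a * W.symm (f x) * a⁻¹
    rw [hf, hW]) with h | h
  · left
    have : (f : G → G) = W ∘ (W.symm.toMonoidHom.comp f) := by
      funext x
      exact (W.apply_symm_apply (f x)).symm
    rw [this]
    exact W.bijective.comp h
  · refine Or.inr (Finite.injective_iff_bijective.1 ((injective_iff_map_eq_one g).2 fun x hx => ?_))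
    refine h x ?_
    show W.symm (f x) = x
    rw [MulEquiv.symm_apply_eq]
    show f x = w x
    rw [hmul, hx, mul_one]

/-- The exchange step. -/
theorem exchange {m n : ℕ} {A : Fin (m + 1) → Type u} {B : Fin n → Type v} [∀ i, Group (A i)]
    [∀ j, Group (B j)] [∀ i, Finite (A i)] [∀ j, Finite (B j)] (hA : Indec (A 0))
    (hA' : Nontrivial (A 0)) (hB : ∀ j, Indec (B j)) (e : ((i : Fin (m + 1)) → A i) ≃* ((j : Fin n) → B j)) :
    ∃ j, Function.Bijective (fun a : A 0 => e (Pi.mulSingle 0 a) j) ∧
      Function.Bijective (fun y : B j => e.symm (Pi.mulSingle j y) 0) := by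
  classical
  let mask : Finset (Fin n) → ((j : Fin n) → B j) →* ((j : Fin n) → B j) := fun S =>
    MonoidHom.mk' (fun w j => if j ∈ S then w j else 1) fun w w' => funext fun j => by
      simp only [Pi.mul_apply]; split_ifs <;> simp
  let P : Finset (Fin n) → (A 0 →* A 0) := fun S =>
    ((Pi.evalMonoidHom A 0).comp e.symm.toMonoidHom).comp ((mask S).comp
      (e.toMonoidHom.comp (MonoidHom.mulSingle A 0)))
  have hP : ∀ S a, P S a = e.symm (mask S (e (Pi.mulSingle 0 a))) 0 := fun S a => rfl
  have hPn : ∀ S, NormalEnd (P S) := by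
    intro S a x
    have hconj : mask S (e (Pi.mulSingle 0 (a * x * a⁻¹))) =
        e (Pi.mulSingle 0 a) * mask S (e (Pi.mulSingle 0 x)) * (e (Pi.mulSingle 0 a))⁻¹ := by
      rw [show (Pi.mulSingle 0 (a * x * a⁻¹) : (i : Fin (m + 1)) → A i) =
        Pi.mulSingle 0 a * Pi.mulSingle 0 x * (Pi.mulSingle 0 a)⁻¹ by
          simp [Pi.mulSingle_mul, Pi.mulSingle_inv]]
      rw [map_mul e, map_mul e, map_inv e]
      funext j
      simp only [mask, MonoidHom.mk'_apply, Pi.mul_apply, Pi.inv_apply]
      split_ifs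
      · rfl
      · simp
    rw [hP, hP, hconj, map_mul, map_mul, map_inv, e.symm_apply_apply, Pi.mul_apply, Pi.mul_apply,
      Pi.inv_apply, Pi.mulSingle_eq_same]
  have key : ∀ S, Function.Bijective (P S) → ∃ j ∈ S, Function.Bijective (P {j}) := by
    intro S
    induction S using Finset.induction_on with
    | empty =>
      intro h
      obtain ⟨a, b, hab⟩ := hA'.exists_pair_ne
      refine absurd (h.1 ?_) hab
      have : ∀ a, P ∅ a = 1 := fun a => by
        rw [hP, show mask ∅ (e (Pi.mulSingle 0 a)) = 1 from funext fun j => by simp [mask]]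
        simp
      rw [this, this]
    | insert k S hk ih =>
      intro h
      rcases bijective_of_mul hA (P S) (P {k}) (P (insert k S)) (hPn S) (hPn _) (fun a => by
        have hm : ∀ w, mask (insert k S) w = mask S w * mask {k} w := fun w => funext fun j => by
          by_cases hjk : j = k
          · subst hjk; simp [mask, hk]
          · simp [mask, hjk]
        rw [hP, hP, hP, hm, map_mul, Pi.mul_apply]) h with h' | h'
      · obtain ⟨j, hj, hb⟩ := ih h'
        exact ⟨j, Finset.mem_insert_of_mem hj, hb⟩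
      · exact ⟨k, Finset.mem_insert_self k S, h'⟩
  obtain ⟨j, -, hj⟩ := key Finset.univ (by
    have : (P Finset.univ : A 0 → A 0) = id := funext fun a => by
      rw [hP, show mask Finset.univ (e (Pi.mulSingle 0 a)) = e (Pi.mulSingle 0 a) from
        funext fun j => by simp [mask]]
      simp
    rw [this]; exact Function.bijective_id)
  let α : A 0 →* B j := (Pi.evalMonoidHom B j).comp (e.toMonoidHom.comp (MonoidHom.mulSingle A 0))
  let β : B j →* A 0 := (Pi.evalMonoidHom A 0).comp (e.symm.toMonoidHom.comp (MonoidHom.mulSingle B j))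
  have hcomp : ∀ a, P {j} a = β (α a) := by
    intro a
    rw [hP, show mask {j} (e (Pi.mulSingle 0 a)) = Pi.mulSingle j (α a) from funext fun k => by
      by_cases hk : k = j
      · subst hk; simp [mask, α]
      · simp [mask, hk, Pi.mulSingle_eq_of_ne hk]]
    rfl
  have hα : Function.Injective α := fun a b h => hj.1 (by rw [hcomp, hcomp, h])
  have hβs : Function.Surjective β := fun a => by
    obtain ⟨x, hx⟩ := hj.2 a
    exact ⟨α x, by rw [← hcomp, hx]⟩
  have hran : α.range.Normal := ⟨by
    rintro _ ⟨a, rfl⟩ y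
    obtain ⟨g, hg⟩ := e.surjective (Pi.mulSingle j y)
    refine ⟨g 0 * a * (g 0)⁻¹, ?_⟩
    show e (Pi.mulSingle 0 (g 0 * a * (g 0)⁻¹)) j = y * e (Pi.mulSingle 0 a) j * y⁻¹
    rw [show (Pi.mulSingle 0 (g 0 * a * (g 0)⁻¹) : (i : Fin (m + 1)) → A i) =
      g * Pi.mulSingle 0 a * g⁻¹ from funext fun i => by
        by_cases hi : i = 0
        · subst hi; simp
        · simp [Pi.mulSingle_eq_of_ne hi]]
    simp [hg]⟩
  have hinf : β.ker ⊓ α.range = ⊥ := by
    rw [eq_bot_iff]
    rintro _ ⟨hk, a, rfl⟩
    have h1 : P {j} a = 1 := by rw [hcomp]; exact hk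
    have : a = 1 := hj.1 (by rw [h1, map_one])
    simp [this]
  have hsup : β.ker ⊔ α.range = ⊤ := by
    rw [eq_top_iff]
    intro y _
    obtain ⟨a, ha⟩ := hj.2 (β y)
    have hk : y * (α a)⁻¹ ∈ β.ker := by
      rw [MonoidHom.mem_ker, map_mul, map_inv, ← hcomp, ha, mul_inv_cancel]
    have := mul_mem (Subgroup.mem_sup_left (T := α.range) hk)
      (Subgroup.mem_sup_right (S := β.ker) (⟨a, rfl⟩ : α a ∈ α.range))
    rwa [inv_mul_cancel_right] at this
  have hne : α.range ≠ ⊥ := by
    intro h
    obtain ⟨a, b, hab⟩ := hA'.exists_pair_ne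
    refine hab (hα ?_)
    have h1 : ∀ a, α a = 1 := fun a => Subgroup.mem_bot.1 (h ▸ (⟨a, rfl⟩ : α a ∈ α.range))
    rw [h1, h1]
  have hker : β.ker = ⊥ :=
    ((hB j) _ _ inferInstance hran hinf hsup).resolve_right hne
  have hαs : Function.Surjective α := by
    rw [hker, bot_sup_eq] at hsup
    exact MonoidHom.range_eq_top.1 hsup
  exact ⟨j, ⟨hα, hαs⟩, (MonoidHom.ker_eq_bot_iff β).1 hker, hβs⟩

theorem krullSchmidt {m : ℕ} : ∀ {n : ℕ} {A : Fin m → Type u} {B : Fin n → Type v} [∀ i, Group (A i)]
    [∀ j, Group (B j)] [∀ i, Finite (A i)] [∀ j, Finite (B j)],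
    (∀ i, Nontrivial (A i) ∧ Indec (A i)) → (∀ j, Nontrivial (B j) ∧ Indec (B j)) →
    (((i : Fin m) → A i) ≃* ((j : Fin n) → B j)) → ∃ σ : Fin m ≃ Fin n, ∀ i, Nonempty (A i ≃* B (σ i)) := by
  induction m with
  | zero =>
    intro n A B _ _ _ _ hA hB e
    rcases Nat.eq_zero_or_pos n with rfl | hn
    · exact ⟨Equiv.refl _, fun i => i.elim0⟩
    · exfalso
      obtain ⟨a, b, hab⟩ := (hB ⟨0, hn⟩).1.exists_pair_ne
      refine hab ?_
      have h : e.symm (Pi.mulSingle (⟨0, hn⟩ : Fin n) a) = e.symm (Pi.mulSingle (⟨0, hn⟩ : Fin n) b) :=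
        funext fun i => i.elim0
      exact Pi.mulSingle_injective (⟨0, hn⟩ : Fin n) (e.symm.injective h)
  | succ m ih =>
    intro n A B _ _ _ _ hA hB e
    obtain ⟨j, hα, hβ⟩ := exchange (hA 0).2 (hA 0).1 (fun j => (hB j).2) e
    obtain ⟨n, rfl⟩ : ∃ k, n = k + 1 := ⟨n - 1, by have := j.isLt; omega⟩
    let r : ((k : Fin m) → A k.succ) →* ((k : Fin n) → B (j.succAbove k)) :=
      MonoidHom.mk' (fun x k => e (Fin.cons 1 x) (j.succAbove k)) fun x y => funext fun k => by
        rw [show (Fin.cons 1 (x * y) : (i : Fin (m + 1)) → A i) = Fin.cons 1 x * Fin.cons 1 y from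
          funext fun i => by refine Fin.cases ?_ ?_ i <;> simp, map_mul]
        rfl
    have hr : Function.Injective r := by
      refine (injective_iff_map_eq_one r).2 fun x hx => ?_
      set w := e (Fin.cons 1 x) with hw
      have hw' : w = Pi.mulSingle j (w j) := funext fun k => by
        by_cases hk : k = j
        · subst hk; simp
        · obtain ⟨k', rfl⟩ := Fin.exists_succAbove_eq hk
          rw [Pi.mulSingle_eq_of_ne hk]
          exact congrFun hx k'
      have h1 : e.symm w = Fin.cons 1 x := e.symm_apply_apply _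
      have h2 : e.symm (Pi.mulSingle j (w j)) 0 = e.symm (Pi.mulSingle j (1 : B j)) 0 := by
        rw [← hw', h1]; simp
      have h3 : w j = 1 := hβ.1 h2
      rw [hw', h3, Pi.mulSingle_one, map_one] at h1
      funext k
      exact (congrFun h1 k.succ).symm
    have hcard : Nat.card ((k : Fin m) → A k.succ) = Nat.card ((k : Fin n) → B (j.succAbove k)) := by
      have h := Nat.card_congr e.toEquiv
      rw [Nat.card_congr (Fin.consEquiv A).symm, Nat.card_congr (Fin.insertNthEquiv B j).symm,
        Nat.card_prod, Nat.card_prod, Nat.card_congr (Equiv.ofBijective _ hα)] at h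
      exact Nat.eq_of_mul_eq_mul_left Nat.card_pos h
    obtain ⟨τ, hτ⟩ := ih (fun i => hA i.succ) (fun k => hB (j.succAbove k))
      (MulEquiv.ofBijective r ((Nat.bijective_iff_injective_and_card r).2 ⟨hr, hcard⟩))
    let σ : Fin (m + 1) ≃ Fin (n + 1) :=
      (finSuccEquiv m).trans ((Equiv.optionCongr τ).trans (finSuccEquiv' j).symm)
    refine ⟨σ, fun i => ?_⟩
    refine Fin.cases ?_ (fun k => ?_) i
    · have : σ 0 = j := by simp [σ]
      rw [this]
      exact ⟨MulEquiv.ofBijective ((Pi.evalMonoidHom B j).comp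
        (e.toMonoidHom.comp (MonoidHom.mulSingle A 0))) hα⟩
    · have : σ k.succ = j.succAbove (τ k) := by simp [σ]
      rw [this]
      exact hτ k

end Cfsg.Agent.Fg24.KrullSchmidt
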