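import Cfsg.Agent.Fg24.QuatKernel
import Cfsg.Agent.S0039
import Cfsg.Agent.S0040

/-!
Frobenius complements with a noncyclic Sylow subgroup: the kernel has odd square order.
-/

set_option autoImplicit false

namespace Cfsg.Agent.Fg24

open Subgroup QuaternionGroup

universe u

variable {L : Type u} [Group L] [Finite L]

/-- Two anticommuting elements of a complement with the same involution as square force the
kernel to be of odd square order. -/
theorem kernel_card_of_pair {H : Subgroup L} (hH : Cfsg.IsFrobeniusComplement H) {i j z : H}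
    (hz : z ≠ 1) (hi : i * i = z) (hj : j * j = z) (hzz : z * z = 1) (hij : i * j = z * (j * i)) :
    Odd (Nat.card (Cfsg.frobeniusKernel H)) ∧ IsSquare (Nat.card (Cfsg.frobeniusKernel H)) := by
  obtain ⟨N, hN, hNn, hNH⟩ := Core.exists_frobeniusKernel hH
  rw [← hN, SetLike.coe_sort_coe]
  have hidx : Nat.card N = H.index := hNH.index_eq_card.symm
  have hodd : Odd (Nat.card N) := by
    have h := Core.coprime_card_index_of_isFrobeniusComplement hH
    have h2 : 2 ∣ Nat.card H := by
      have ho : orderOf z = 2 := orderOf_eq_prime (by rw [sq, hzz]) hz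
      exact ho ▸ orderOf_dvd_natCard z
    rw [← hidx] at h
    exact Nat.coprime_two_left.1 (h.coprime_dvd_left h2)
  refine ⟨hodd, ?_⟩
  let act : H →* MulAut N := (MulAut.conjNormal (H := N)).comp H.subtype
  have hfpf : ∀ (q : H) (n : N), q ≠ 1 → act q n = n → n = 1 := by
    intro q n hq hn
    have hq1 : (q : L) ≠ 1 := fun h' => hq (Subtype.ext h')
    by_contra hne
    have hn' : (q : L) * n * (q : L)⁻¹ = n := by
      have := congrArg Subtype.val hn
      simpa [act] using this
    have hnH : (n : L) ∉ H := fun hc => hne (Subtype.ext (by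
      have h3 : (n : L) ∈ N ⊓ H := ⟨n.2, hc⟩
      rwa [disjoint_iff.1 hNH.disjoint, mem_bot] at h3))
    refine hq1 (Core.malnormal_of_isFrobeniusComplement hH (n : L) hnH q q.2 ?_)
    have h4 : (q : L) * n = n * q := mul_inv_eq_iff_eq_mul.1 hn'
    rw [← h4, mul_inv_cancel_right]
    exact q.2
  have hinv : ∀ n : N, act z n = n⁻¹ := by
    intro n
    have hbij : Function.Bijective fun m : N => m⁻¹ * act z m := by
      refine Finite.injective_iff_bijective.1 fun x y hxy => ?_
      have hxy' : x⁻¹ * act z x = y⁻¹ * act z y := hxy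
      have h2 : act z (y * x⁻¹) = y * x⁻¹ := by
        rw [map_mul, map_inv, show act z y = y * (x⁻¹ * act z x) by rw [hxy']; group]
        group
      have := hfpf z _ hz h2
      exact (mul_inv_eq_one.1 this).symm
    obtain ⟨m, rfl⟩ := hbij.2 n
    have hzm : act z (act z m) = m := by
      rw [← MulAut.mul_apply, ← map_mul, hzz, map_one]; rfl
    show act z (m⁻¹ * act z m) = (m⁻¹ * act z m)⁻¹
    rw [map_mul, map_inv, hzm]; group
  let _ : CommGroup N :=
    { (inferInstance : Group N) with
      mul_comm := fun x y => inv_injective (by rw [← hinv, map_mul, hinv, hinv, mul_inv_rev]) }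
  let I : AddMonoid.End (Additive N) := MonoidHom.toAdditive (act i).toMonoidHom
  let J : AddMonoid.End (Additive N) := MonoidHom.toAdditive (act j).toMonoidHom
  have hodd' : Odd (Nat.card (Additive N)) := hodd
  have key : ∀ (q r : H) (v : Additive N),
      Additive.ofMul (act q (act r v.toMul)) = Additive.ofMul (act (q * r) v.toMul) := fun q r v => by
    rw [map_mul, MulAut.mul_apply]
  show IsSquare (Nat.card (Additive N))
  refine isSquare_card_of_anticomm (W := Additive N) hodd' I J (fun v => ?_) (fun v => ?_)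
    (fun v => ?_)
  · show Additive.ofMul (act i (act i v.toMul)) = _
    rw [key, hi, hinv]; rfl
  · show Additive.ofMul (act j (act j v.toMul)) = _
    rw [key, hj, hinv]; rfl
  · show Additive.ofMul (act i (act j v.toMul)) = -Additive.ofMul (act j (act i v.toMul))
    rw [key, key, hij, map_mul, MulAut.mul_apply, hinv]
    rfl

theorem kernel_card_of_noncyclic_sylow {H : Subgroup L} (hH : Cfsg.IsFrobeniusComplement H)
    {p : ℕ} [Fact p.Prime] (P : Sylow p H) (hP : ¬ IsCyclic P) :
    Odd (Nat.card (Cfsg.frobeniusKernel H)) ∧ IsSquare (Nat.card (Cfsg.frobeniusKernel H)) := by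
  obtain ⟨N, -, hNn, hNH⟩ := Core.exists_frobeniusKernel hH
  have hNne : N ≠ ⊥ := fun e => hH.2.1 (Subgroup.isComplement'_bot_left.mp (e ▸ hNH))
  have hfpf := (S0039.result N H hNH hNne hH.1).mp hH
  rcases S0040.result N H hNH hNne hfpf p P with h | ⟨n, ⟨e⟩⟩
  · exact absurd h hP
  rcases n with _ | n
  · exfalso
    refine hP ?_
    let f : QuaternionGroup (2 ^ 0) ≃* (P : Subgroup H) := e.symm
    have : IsCyclic (QuaternionGroup (2 ^ 0)) := by
      refine isCyclic_of_orderOf_eq_card (xa 0) ?_
      rw [Nat.card_eq_fintype_card, QuaternionGroup.card, orderOf_xa, pow_zero, mul_one]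
    exact isCyclic_of_surjective f.toMonoidHom f.surjective
  let ψ : QuaternionGroup (2 ^ (n + 1)) →* H :=
    (P : Subgroup H).subtype.comp e.symm.toMonoidHom
  have hψ : Function.Injective ψ := (Subgroup.subtype_injective _).comp e.symm.injective
  set m : ZMod (2 * 2 ^ (n + 1)) := ((2 ^ n : ℕ) : ZMod (2 * 2 ^ (n + 1))) with hm
  set N' : ZMod (2 * 2 ^ (n + 1)) := ((2 ^ (n + 1) : ℕ) : ZMod (2 * 2 ^ (n + 1))) with hN'
  have hmm : m + m = N' := by rw [hm, hN', pow_succ]; push_cast; ring
  have h2N : N' + N' = 0 := by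
    rw [hN', ← Nat.cast_add, ← two_mul, ZMod.natCast_self]
  have hN0 : N' ≠ 0 := by
    rw [hN', Ne, ZMod.natCast_eq_zero_iff]
    intro h
    have := Nat.le_of_dvd (by positivity) h
    have : 0 < 2 ^ (n + 1) := by positivity
    omega
  refine kernel_card_of_pair hH (i := ψ (a m)) (j := ψ (xa 0)) (z := ψ (a N'))
    (fun h => hN0 ?_) ?_ ?_ ?_ ?_
  · have h1 := hψ (h.trans (map_one ψ).symm)
    rw [one_def, a.injEq] at h1
    exact h1
  · rw [← map_mul, a_mul_a, hmm]
  · rw [← map_mul, xa_mul_xa]; congr 2; rw [hN']; simp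
  · rw [← map_mul, a_mul_a, h2N, a_zero, map_one]
  · rw [← map_mul, ← map_mul, ← map_mul, a_mul_xa, xa_mul_a, a_mul_xa]
    congr 2
    linear_combination (-1 : ZMod (2 * 2 ^ (n + 1))) * hmm

end Cfsg.Agent.Fg24
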