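import Mathlib
import Cfsg.Agent.Core.FPF
import Cfsg.Agent.FrobExamples.Basic
import Cfsg.Agent.S0039
import Cfsg.Agent.S0042

/-!
Representations in which the norm of every subgroup of prime order vanishes: fixed point free
modules can be moved to any large characteristic, so a direct product of Frobenius complements of
coprime orders is a Frobenius complement.
-/

set_option autoImplicit false

namespace Cfsg.Agent.Fg24

open Subgroup Matrix
open scoped Kronecker

universe u v

variable {A : Type u} [Group A]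

/-- The norm of every subgroup of prime order acts as zero. -/
def IsNormFree {R : Type v} [Semiring R] {ι : Type*} [Fintype ι] [DecidableEq ι]
    (ρ : A →* Matrix ι ι R) : Prop :=
  ∀ (c : A) (q : ℕ), q.Prime → orderOf c = q → ∑ i ∈ Finset.range q, ρ (c ^ i) = 0

/-- A norm free representation over `ZMod q` gives a Frobenius complement. -/
theorem exists_frobenius_of_normFree [Finite A] [Nontrivial A] {q : ℕ} [Fact q.Prime]
    (hqA : ¬ q ∣ Nat.card A) {ι : Type*} [Fintype ι] [DecidableEq ι] [Nonempty ι]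
    (ρ : A →* Matrix ι ι (ZMod q)) (hρ : IsNormFree ρ) :
    ∃ (L : Type) (_ : Group L) (_ : Finite L) (H : Subgroup L),
      Cfsg.IsFrobeniusComplement H ∧ Nonempty (A ≃* H) := by
  let φ : A →* MulAut (Multiplicative (ι → ZMod q)) :=
    { toFun := fun a => AddEquiv.toMultiplicative
        { toFun := fun v => ρ a *ᵥ v
          invFun := fun v => ρ a⁻¹ *ᵥ v
          left_inv := fun v => by
            show ρ a⁻¹ *ᵥ (ρ a *ᵥ v) = v
            rw [mulVec_mulVec, ← map_mul, inv_mul_cancel, map_one, one_mulVec]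
          right_inv := fun v => by
            show ρ a *ᵥ (ρ a⁻¹ *ᵥ v) = v
            rw [mulVec_mulVec, ← map_mul, mul_inv_cancel, map_one, one_mulVec]
          map_add' := fun v w => mulVec_add _ v w }
      map_one' := MulEquiv.ext fun v => congrArg Multiplicative.ofAdd (by
        show ρ 1 *ᵥ v.toAdd = v.toAdd
        rw [map_one, one_mulVec])
      map_mul' := fun a b => MulEquiv.ext fun v => congrArg Multiplicative.ofAdd (by
        show ρ (a * b) *ᵥ v.toAdd = ρ a *ᵥ (ρ b *ᵥ v.toAdd)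
        rw [map_mul, mulVec_mulVec]) }
  have : Nontrivial (Multiplicative (ι → ZMod q)) := inferInstanceAs (Nontrivial (ι → ZMod q))
  refine FrobExamples.exists_frobenius_of_action' φ fun a ha v hv => ?_
  have hv' : ρ a *ᵥ v.toAdd = v.toAdd := congrArg Multiplicative.toAdd hv
  obtain ⟨p, hp, hpd⟩ := Nat.exists_prime_and_dvd (orderOf_eq_one_iff.not.2 ha)
  set c := a ^ (orderOf a / p)
  have hc : orderOf c = p := orderOf_pow_orderOf_div (orderOf_pos a).ne' hpd
  have hfix : ∀ j : ℕ, ρ (a ^ j) *ᵥ v.toAdd = v.toAdd := by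
    intro j
    induction j with
    | zero => simp
    | succ j ih => rw [pow_succ, map_mul, ← mulVec_mulVec, hv', ih]
  have h1 : (p : ZMod q) • v.toAdd = 0 := by
    have h := congrArg (fun M => M *ᵥ v.toAdd) (hρ c p hp hc)
    simp only [sum_mulVec, zero_mulVec] at h
    have h2 : ∀ i : ℕ, ρ (c ^ i) *ᵥ v.toAdd = v.toAdd := fun i => by
      rw [← pow_mul]; exact hfix _
    rw [Finset.sum_congr rfl fun i _ => h2 i, Finset.sum_const, Finset.card_range] at h
    rwa [Nat.cast_smul_eq_nsmul]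
  have hp0 : (p : ZMod q) ≠ 0 := by
    rw [Ne, ZMod.natCast_eq_zero_iff]
    intro h
    rw [(Nat.prime_dvd_prime_iff_eq (Fact.out : q.Prime) hp).1 h, ← hc] at hqA
    exact hqA (orderOf_dvd_natCard c)
  exact Multiplicative.toAdd.injective ((smul_eq_zero.1 h1).resolve_left hp0)

/-- A Frobenius complement acts without fixed points on a nontrivial finite abelian group. -/
theorem exists_fpf_of_complement [Finite A]
    (h : ∃ (L : Type) (_ : Group L) (_ : Finite L) (H : Subgroup L),
      Cfsg.IsFrobeniusComplement H ∧ Nonempty (A ≃* H)) :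
    ∃ (W : Type) (_ : CommGroup W) (_ : Finite W) (_ : Nontrivial W) (φ : A →* MulAut W),
      Core.IsFPF φ := by
  obtain ⟨G, _, _, H, hF, ⟨e⟩⟩ := h
  obtain ⟨N, hNset, hNn, hNnil⟩ := S0042.result H hF
  obtain ⟨M, hMset, -, hMc⟩ := Core.exists_frobeniusKernel hF
  obtain rfl : N = M := SetLike.coe_injective (hNset.trans hMset.symm)
  have := hNnil
  have hNne : N ≠ ⊥ := fun e => hF.2.1 (Subgroup.isComplement'_bot_left.mp (e ▸ hMc))
  have : Nontrivial N := (Subgroup.nontrivial_iff_ne_bot N).mpr hNne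
  set W : Subgroup G := (Subgroup.center N).map N.subtype with hW
  have hWab : IsMulCommutative W := by
    refine ⟨⟨?_⟩⟩
    rintro ⟨_, a, ha, rfl⟩ ⟨_, b, hb, rfl⟩
    exact Subtype.ext (congrArg Subtype.val (Subgroup.mem_center_iff.mp ha b)).symm
  have hWn : H ≤ Subgroup.normalizer (W : Set G) := by
    have : W.Normal := inferInstance
    rw [Subgroup.normalizer_eq_top]; exact le_top
  have hW1 : W ≠ ⊥ := fun e => Group.IsNilpotent.center_ne_bot (G := N)
    ((Subgroup.map_eq_bot_iff_of_injective _ N.subtype_injective).mp e)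
  have hHfpf := (S0039.result N H hMc hNne hF.1).mp hF
  have hfpf' : ∀ h ∈ H, h ≠ 1 → W ⊓ Subgroup.centralizer {h} = ⊥ := fun h hh h1 =>
    eq_bot_iff.mpr ((inf_le_inf_right _ (Subgroup.map_subtype_le _)).trans (hHfpf h hh h1).le)
  let _ : CommGroup W := { (inferInstance : Group W) with mul_comm := hWab.is_comm.comm }
  exact ⟨W, inferInstance, inferInstance, (Subgroup.nontrivial_iff_ne_bot W).mpr hW1,
    (W.normalizerMonoidHom.comp (inclusion hWn)).comp e.toMonoidHom,
    (Core.exists_isFPF hWn hfpf').comp e.injective⟩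

/-- From a fixed point free action to a norm free representation over a prime field. -/
theorem exists_normFree_zmod [Finite A] {W : Type} [CommGroup W] [Finite W] [Nontrivial W]
    {φ : A →* MulAut W} (hφ : Core.IsFPF φ) :
    ∃ (p n : ℕ) (_ : Fact p.Prime), ¬ p ∣ Nat.card A ∧ 0 < n ∧
      ∃ ρ : A →* Matrix (Fin n) (Fin n) (ZMod p), IsNormFree ρ := by
  obtain ⟨p, hp, hpW⟩ := Nat.exists_prime_and_dvd (Finite.one_lt_card (α := W)).ne'
  have := Fact.mk hp
  refine ⟨p, ?_⟩
  have hpA : ¬ p ∣ Nat.card A := fun h =>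
    hp.not_dvd_one (hφ.coprime ▸ Nat.dvd_gcd hpW h)
  obtain ⟨w, hw⟩ := exists_prime_orderOf_dvd_card' p hpW
  let U : AddSubgroup (Additive W) :=
    { carrier := {v | p • v = 0}
      zero_mem' := smul_zero _
      add_mem' := fun {a b} ha hb => by
        show p • (a + b) = 0
        rw [smul_add, show p • a = 0 from ha, show p • b = 0 from hb, add_zero]
      neg_mem' := fun {a} ha => by
        show p • -a = 0
        rw [smul_neg, show p • a = 0 from ha, neg_zero] }
  let _ : Module (ZMod p) U := AddCommGroup.zmodModule (n := p) fun u => Subtype.ext u.2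
  have : Nontrivial U := ⟨⟨⟨Additive.ofMul w, congrArg Additive.ofMul
      (hw ▸ pow_orderOf_eq_one w : w ^ p = 1)⟩, 0, fun h => by
    have h1 : w = 1 := Additive.ofMul.injective (congrArg Subtype.val h)
    rw [h1, orderOf_one] at hw
    exact hp.one_lt.ne hw⟩⟩
  let T : A → (U →+ U) := fun a =>
    { toFun := fun u => ⟨Additive.ofMul (φ a u.1.toMul), by
        show p • Additive.ofMul (φ a u.1.toMul) = 0
        rw [← ofMul_pow, ← map_pow, show u.1.toMul ^ p = 1 from congrArg Additive.toMul u.2,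
          map_one, ofMul_one]⟩
      map_zero' := Subtype.ext (congrArg Additive.ofMul (map_one (φ a)))
      map_add' := fun x y => Subtype.ext (congrArg Additive.ofMul (map_mul (φ a) _ _)) }
  have : Module.Finite (ZMod p) U := Module.Finite.of_finite
  let b : Module.Basis (Fin (Module.finrank (ZMod p) U)) (ZMod p) U := Module.finBasis (ZMod p) U
  set n := Module.finrank (ZMod p) U
  refine ⟨n, inferInstance, hpA, Module.finrank_pos, ?_⟩
  let ρ : A →* Matrix (Fin n) (Fin n) (ZMod p) :=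
    { toFun := fun a => LinearMap.toMatrixAlgEquiv b (AddMonoidHom.toZModLinearMap p (T a))
      map_one' := by
        rw [← map_one (LinearMap.toMatrixAlgEquiv b)]
        congr 1
        refine LinearMap.ext fun u => Subtype.ext ?_
        show Additive.ofMul (φ 1 u.1.toMul) = u.1
        rw [map_one]; rfl
      map_mul' := fun x y => by
        rw [← map_mul]
        congr 1
        refine LinearMap.ext fun u => Subtype.ext ?_
        show Additive.ofMul (φ (x * y) u.1.toMul) = Additive.ofMul (φ x (φ y u.1.toMul))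
        rw [map_mul]; rfl }
  refine ⟨ρ, fun c q hq hc => ?_⟩
  show ∑ i ∈ Finset.range q, LinearMap.toMatrixAlgEquiv b (AddMonoidHom.toZModLinearMap p (T (c ^ i))) = 0
  rw [← map_sum, ← map_zero (LinearMap.toMatrixAlgEquiv b)]
  congr 1
  refine LinearMap.ext fun u => Subtype.ext ?_
  rw [LinearMap.sum_apply, AddSubgroup.val_finsetSum]
  show ∑ i ∈ Finset.range q, Additive.ofMul (φ (c ^ i) u.1.toMul) = 0
  rw [← ofMul_prod, hφ.prod_range (fun h => by rw [h, orderOf_one] at hc; exact hq.one_lt.ne hc)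
    (hc ▸ pow_orderOf_eq_one c) hq.pos, ofMul_one]

/-- Norm free representations lift modulo every power of the characteristic. -/
theorem exists_normFree_lift [Finite A] {p n : ℕ} [Fact p.Prime] (hpA : ¬ p ∣ Nat.card A)
    (ρ : A →* Matrix (Fin n) (Fin n) (ZMod p)) (hρ : IsNormFree ρ) {k : ℕ} (hk : k ≠ 0) :
    ∃ σ : A →* Matrix (Fin n) (Fin n) (ZMod (p ^ k)), IsNormFree σ := by
  classical
  have hp : p.Prime := Fact.out
  have : NeZero (p ^ k) := ⟨pow_ne_zero _ hp.ne_zero⟩
  let r : ZMod (p ^ k) →+* ZMod p := ZMod.castHom (dvd_pow_self p hk) (ZMod p)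
  let f : Matrix (Fin n) (Fin n) (ZMod (p ^ k)) →+* Matrix (Fin n) (Fin n) (ZMod p) := r.mapMatrix
  set P : Matrix (Fin n) (Fin n) (ZMod (p ^ k)) := (p : Matrix (Fin n) (Fin n) (ZMod (p ^ k)))
    with hP
  have hPk : P ^ k = 0 := by
    rw [hP, ← Nat.cast_pow, ← map_natCast (Matrix.scalar (Fin n)), ZMod.natCast_self, map_zero]
  have hcomm : ∀ M, Commute P M := fun M => Nat.cast_commute p M
  have hker : ∀ M, f M = 0 → ∃ Z, M = P * Z := by
    intro M hM
    have : ∀ i j, ∃ z : ZMod (p ^ k), M i j = p * z := fun i j => by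
      have h0 : r (M i j) = 0 := congrFun (congrFun (congrArg (fun N => (N : Fin n → Fin n → ZMod p)) hM) i) j
      have h1 : ((M i j).val : ZMod p) = 0 := by rw [← h0, ← map_natCast r, ZMod.natCast_zmod_val]
      rw [ZMod.natCast_eq_zero_iff] at h1
      obtain ⟨z, hz⟩ := h1
      exact ⟨z, by rw [← ZMod.natCast_zmod_val (M i j), hz, Nat.cast_mul]⟩
    choose z hz using this
    refine ⟨Matrix.of z, Matrix.ext fun i j => ?_⟩
    rw [hP, ← map_natCast (Matrix.scalar (Fin n)), Matrix.scalar_apply, Matrix.diagonal_mul]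
    exact hz i j
  have hsum1 : ∀ (y : Matrix (Fin n) (Fin n) (ZMod (p ^ k))), (∃ Z, y - 1 = P * Z) →
      ∃ Z, ∑ j ∈ Finset.range p, y ^ j = P * Z := by
    intro y hy
    obtain ⟨Z, hZ⟩ := hy
    refine ⟨1 + ∑ j ∈ Finset.range p, Z * ∑ l ∈ Finset.range j, y ^ l, ?_⟩
    have h1 : ∀ j, y ^ j = 1 + P * (Z * ∑ l ∈ Finset.range j, y ^ l) := fun j => by
      rw [← mul_assoc, ← hZ, mul_geom_sum, add_sub_cancel]
    calc ∑ j ∈ Finset.range p, y ^ j
        = ∑ j ∈ Finset.range p, (1 + P * (Z * ∑ l ∈ Finset.range j, y ^ l)) :=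
          Finset.sum_congr rfl fun j _ => h1 j
      _ = P * (1 + ∑ j ∈ Finset.range p, Z * ∑ l ∈ Finset.range j, y ^ l) := by
          rw [Finset.sum_add_distrib, Finset.sum_const, Finset.card_range, mul_add, mul_one,
            Finset.mul_sum, nsmul_one]
  have hnil : ∀ y, f y = 1 → y ^ p ^ k = 1 := by
    intro y hy
    have : ∀ i, ∃ Z, y ^ p ^ i - 1 = P ^ (i + 1) * Z := by
      intro i
      induction i with
      | zero =>
        obtain ⟨Z, hZ⟩ := hker (y - 1) (by rw [map_sub, hy, map_one, sub_self])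
        exact ⟨Z, by rw [pow_zero, pow_one, zero_add, pow_one]; exact hZ⟩
      | succ i ih =>
        obtain ⟨Z, hZ⟩ := ih
        obtain ⟨Z', hZ'⟩ := hsum1 (y ^ p ^ i) ⟨P ^ i * Z, by rw [hZ, pow_succ', mul_assoc]⟩
        refine ⟨Z * Z', ?_⟩
        rw [pow_succ p i, pow_mul, ← mul_geom_sum, hZ, hZ', mul_assoc,
          ← mul_assoc Z P Z', ← (hcomm Z).eq, mul_assoc P Z Z', ← mul_assoc, ← pow_succ]
    obtain ⟨Z, hZ⟩ := this k
    rw [pow_succ, hPk, zero_mul, zero_mul, sub_eq_zero] at hZ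
    exact hZ
  -- Schur--Zassenhaus
  let F : (Matrix (Fin n) (Fin n) (ZMod (p ^ k)))ˣ →* (Matrix (Fin n) (Fin n) (ZMod p))ˣ :=
    Units.map f.toMonoidHom
  let ρu : A →* (Matrix (Fin n) (Fin n) (ZMod p))ˣ := ρ.toHomUnits
  set G := ρu.range.comap F with hG
  let F' : G →* (Matrix (Fin n) (Fin n) (ZMod p))ˣ := F.comp G.subtype
  set K := F'.ker with hK
  have hKp : IsPGroup p K := by
    intro g
    refine ⟨k, Subtype.ext (Subtype.ext (Units.ext ?_))⟩
    have h : f (((g : G) : (Matrix (Fin n) (Fin n) (ZMod (p ^ k)))ˣ) :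
        Matrix (Fin n) (Fin n) (ZMod (p ^ k))) = 1 :=
      congrArg Units.val (MonoidHom.mem_ker.1 g.2)
    simpa using hnil _ h
  have hrange : F'.range = ρu.range := by
    refine le_antisymm (by rintro _ ⟨g, rfl⟩; exact g.2) ?_
    rintro _ ⟨a, rfl⟩
    obtain ⟨M, hM⟩ : ∃ M, f M = ρ a := by
      refine ⟨(ρ a).map fun z => (z.val : ZMod (p ^ k)), Matrix.ext fun i j => ?_⟩
      show r (((ρ a i j).val : ℕ) : ZMod (p ^ k)) = ρ a i j
      rw [map_natCast, ZMod.natCast_zmod_val]
    obtain ⟨M', hM'⟩ : ∃ M, f M = ρ a⁻¹ := by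
      refine ⟨(ρ a⁻¹).map fun z => (z.val : ZMod (p ^ k)), Matrix.ext fun i j => ?_⟩
      show r (((ρ a⁻¹ i j).val : ℕ) : ZMod (p ^ k)) = ρ a⁻¹ i j
      rw [map_natCast, ZMod.natCast_zmod_val]
    have h1 : IsUnit (M * M') := by
      refine IsUnit.of_pow_eq_one (hnil _ ?_) (pow_ne_zero _ hp.ne_zero)
      rw [map_mul, hM, hM', ← map_mul, mul_inv_cancel, map_one]
    obtain ⟨u, hu⟩ := h1
    have hMu : IsUnit M := by
      rw [Matrix.isUnit_iff_isUnit_det]
      have hd : IsUnit (M * M').det := (Matrix.isUnit_iff_isUnit_det _).1 ⟨u, hu⟩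
      rw [Matrix.det_mul] at hd
      exact isUnit_of_mul_isUnit_left hd
    obtain ⟨g, hg⟩ := hMu
    have hgF : F g = ρu a := Units.ext (by
      show f (g : Matrix (Fin n) (Fin n) (ZMod (p ^ k))) = ρ a
      rw [hg, hM])
    exact ⟨⟨g, a, hgF.symm⟩, hgF⟩
  have hKi : K.index ∣ Nat.card A := by
    rw [hK, index_ker, hrange]
    exact card_range_dvd _
  obtain ⟨C, hC⟩ := exists_right_complement'_of_coprime (N := K) (by
    obtain ⟨j, hj⟩ := IsPGroup.iff_card.1 hKp
    rw [hj]
    exact ((hp.coprime_iff_not_dvd.2 hpA).coprime_dvd_right hKi).pow_left j)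
  let e : C →* ρu.range :=
    (MonoidHom.codRestrict F' ρu.range fun g => hrange ▸ ⟨g, rfl⟩).comp C.subtype
  have he : Function.Bijective e := by
    constructor
    · refine (injective_iff_map_eq_one e).2 fun x hx => Subtype.ext ?_
      have h1 : (x : G) ∈ K ⊓ C := ⟨MonoidHom.mem_ker.2 (congrArg Subtype.val hx), x.2⟩
      rwa [disjoint_iff.1 hC.disjoint, mem_bot] at h1
    · rintro ⟨y, hy⟩
      obtain ⟨g, hg⟩ : y ∈ F'.range := hrange.symm ▸ hy
      obtain ⟨⟨⟨x, hx⟩, ⟨c, hc⟩⟩, hxc⟩ := hC.2 g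
      refine ⟨⟨c, hc⟩, Subtype.ext ?_⟩
      show F' c = y
      have h2 : x * c = g := hxc
      rw [← hg, ← h2, map_mul, MonoidHom.mem_ker.1 hx, one_mul]
  let σ : A →* Matrix (Fin n) (Fin n) (ZMod (p ^ k)) :=
    ((Units.coeHom _).comp (G.subtype.comp C.subtype)).comp
      ((MulEquiv.ofBijective e he).symm.toMonoidHom.comp ρu.rangeRestrict)
  have hσ : ∀ a, f (σ a) = ρ a := fun a => by
    have h := congrArg (fun z : ρu.range => ((z : (Matrix (Fin n) (Fin n) (ZMod p))ˣ) :
      Matrix (Fin n) (Fin n) (ZMod p))) ((MulEquiv.ofBijective e he).apply_symm_apply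
        (ρu.rangeRestrict a))
    exact h
  refine ⟨σ, fun c q hq hc => ?_⟩
  set N := ∑ i ∈ Finset.range q, σ (c ^ i) with hN
  obtain ⟨Z, hZ⟩ := hker N (by rw [hN, map_sum]; simp only [hσ]; exact hρ c q hq hc)
  have hNN : N * N = (q : Matrix (Fin n) (Fin n) (ZMod (p ^ k))) * N := by
    have h1 : ∀ i, σ (c ^ i) * N = N := by
      intro i
      induction i with
      | zero => simp
      | succ i ih =>
        have h2 : σ c * N = N := by
          rw [hN, Finset.mul_sum]
          obtain ⟨q', rfl⟩ := Nat.exists_eq_succ_of_ne_zero hq.ne_zero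
          rw [Nat.succ_eq_add_one] at hc ⊢
          conv_lhs => rw [Finset.sum_range_succ]
          conv_rhs => rw [Finset.sum_range_succ', pow_zero]
          congr 1
          · exact Finset.sum_congr rfl fun l _ => by rw [← map_mul, pow_succ']
          · rw [← map_mul, ← pow_succ', ← hc, pow_orderOf_eq_one]
        rw [pow_succ, map_mul, mul_assoc, h2, ih]
    conv_lhs => arg 1; rw [hN]
    rw [Finset.sum_mul, Finset.sum_congr rfl fun i _ => h1 i, Finset.sum_const, Finset.card_range,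
      nsmul_eq_mul]
  have hpow : ∀ j : ℕ, N ^ (j + 1) = (q : Matrix (Fin n) (Fin n) (ZMod (p ^ k))) ^ j * N := by
    intro j
    induction j with
    | zero => simp
    | succ j ih => rw [pow_succ, ih, mul_assoc, hNN, ← mul_assoc, ← pow_succ]
  obtain ⟨j, rfl⟩ := Nat.exists_eq_succ_of_ne_zero hk
  have h0 := hpow j
  rw [hZ, (hcomm Z).mul_pow, show P ^ (j + 1) = 0 from hPk, zero_mul, ← hZ] at h0
  have hqu : IsUnit ((q : ZMod (p ^ (j + 1)))) := by
    refine (ZMod.unitOfCoprime q (Nat.Coprime.pow_right _ ?_)).isUnit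
    refine (Nat.coprime_primes hq hp).2 fun e => hpA ?_
    rw [← e, ← hc]; exact orderOf_dvd_natCard c
  have hqM : IsUnit (q : Matrix (Fin n) (Fin n) (ZMod (p ^ (j + 1)))) := by
    rw [← map_natCast (Matrix.scalar (Fin n))]; exact hqu.map _
  exact ((hqM.pow j).mul_right_eq_zero).1 h0.symm

/-- Norm free lattices exist for Frobenius complements. -/
theorem exists_normFree_int [Finite A]
    (h : ∃ (L : Type) (_ : Group L) (_ : Finite L) (H : Subgroup L),
      Cfsg.IsFrobeniusComplement H ∧ Nonempty (A ≃* H)) :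
    ∃ (n : ℕ), 0 < n ∧ ∃ ρ : A →* Matrix (Fin n) (Fin n) ℤ, IsNormFree ρ := by
  classical
  obtain ⟨W, _, _, _, φ, hφ⟩ := exists_fpf_of_complement h
  obtain ⟨p, m, _, hpA, hm, ρp, hρp⟩ := exists_normFree_zmod hφ
  have hp : p.Prime := Fact.out
  let R := MonoidAlgebra ℤ A
  let S : Set R := {x | ∃ (g h c : A) (q : ℕ), q.Prime ∧ orderOf c = q ∧
    x = MonoidAlgebra.of ℤ A g * (∑ i ∈ Finset.range q, MonoidAlgebra.of ℤ A (c ^ i)) *
      MonoidAlgebra.of ℤ A h}
  let J : Submodule ℤ R := Submodule.span ℤ S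
  let T : Submodule ℤ R :=
    { carrier := {x | ∃ M : ℤ, M ≠ 0 ∧ M • x ∈ J}
      zero_mem' := ⟨1, one_ne_zero, by rw [smul_zero]; exact zero_mem J⟩
      add_mem' := by
        rintro x y ⟨M, hM, hx⟩ ⟨M', hM', hy⟩
        refine ⟨M * M', mul_ne_zero hM hM', ?_⟩
        rw [smul_add]
        refine add_mem ?_ ?_
        · rw [mul_comm, mul_smul]; exact J.smul_mem _ hx
        · rw [mul_smul]; exact J.smul_mem _ hy
      smul_mem' := by
        rintro c x ⟨M, hM, hx⟩
        exact ⟨M, hM, by rw [smul_comm]; exact J.smul_mem _ hx⟩ }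
  -- `1` is not torsion
  have hone : (1 : R) ∉ T := by
    rintro ⟨M, hM, hMJ⟩
    have hdiv : ∀ k, k ≠ 0 → ((p ^ k : ℕ) : ℤ) ∣ M := by
      intro k hk
      obtain ⟨σ, hσ⟩ := exists_normFree_lift hpA ρp hρp hk
      let Φ : R →ₐ[ℤ] Matrix (Fin m) (Fin m) (ZMod (p ^ k)) := MonoidAlgebra.lift ℤ _ A σ
      have hJ : ∀ x ∈ J, Φ x = 0 := by
        intro x hx
        induction hx using Submodule.span_induction with
        | mem x hx =>
          obtain ⟨g, h, c, q, hq, hc, rfl⟩ := hx
          have hof : ∀ g, Φ (MonoidAlgebra.of ℤ A g) = σ g := fun g => MonoidAlgebra.lift_of _ _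
          simp only [map_mul, map_sum, hof]
          rw [hσ c q hq hc, mul_zero, zero_mul]
        | zero => exact map_zero Φ
        | add x y _ _ hx hy => rw [map_add, hx, hy, add_zero]
        | smul c x _ hx => rw [map_zsmul, hx, smul_zero]
      have h1 := hJ _ hMJ
      rw [map_zsmul, map_one] at h1
      have h2 := congrFun (congrFun (congrArg (fun N => (N : Fin m → Fin m → ZMod (p ^ k))) h1)
        ⟨0, hm⟩) ⟨0, hm⟩
      simp at h2
      exact (ZMod.intCast_zmod_eq_zero_iff_dvd M (p ^ k)).1 h2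
    obtain ⟨k, hk⟩ : ∃ k, M.natAbs < p ^ (k + 1) :=
      ⟨M.natAbs, (Nat.lt_pow_self hp.one_lt).trans (Nat.pow_lt_pow_right hp.one_lt (Nat.lt_succ_self _))⟩
    have h3 := Int.natAbs_dvd_natAbs.2 (hdiv (k + 1) (Nat.succ_ne_zero _))
    rw [Int.natAbs_natCast] at h3
    have := Nat.le_of_dvd (Nat.pos_of_ne_zero (Int.natAbs_ne_zero.2 hM)) h3
    omega
  have hJmul : ∀ (a : A) (x : R), x ∈ J → MonoidAlgebra.of ℤ A a * x ∈ J := by
    intro a x hx
    induction hx using Submodule.span_induction with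
    | mem x hx =>
      obtain ⟨g, h, c, q, hq, hc, rfl⟩ := hx
      refine Submodule.subset_span ⟨a * g, h, c, q, hq, hc, ?_⟩
      rw [map_mul]; simp only [mul_assoc]
    | zero => rw [mul_zero]; exact zero_mem J
    | add x y _ _ hx hy => rw [mul_add]; exact add_mem hx hy
    | smul c x _ hx => rw [mul_smul_comm]; exact J.smul_mem _ hx
  let L : A → (R →ₗ[ℤ] R) := fun a => LinearMap.mulLeft ℤ (MonoidAlgebra.of ℤ A a)
  have hT : ∀ a, T ≤ T.comap (L a) := by
    rintro a x ⟨M, hM, hx⟩
    exact ⟨M, hM, by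
      show M • (MonoidAlgebra.of ℤ A a * x) ∈ J
      rw [← mul_smul_comm]; exact hJmul a _ hx⟩
  let Q := R ⧸ T
  let E : A →* Module.End ℤ Q :=
    { toFun := fun a => T.mapQ T (L a) (hT a)
      map_one' := by
        refine Submodule.linearMap_qext _ (LinearMap.ext fun x => ?_)
        show Submodule.Quotient.mk (MonoidAlgebra.of ℤ A 1 * x) = Submodule.Quotient.mk x
        rw [map_one, one_mul]
      map_mul' := fun a b => by
        refine Submodule.linearMap_qext _ (LinearMap.ext fun x => ?_)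
        show Submodule.Quotient.mk (MonoidAlgebra.of ℤ A (a * b) * x) =
          Submodule.Quotient.mk (MonoidAlgebra.of ℤ A a * (MonoidAlgebra.of ℤ A b * x))
        rw [map_mul, mul_assoc] }
  have hfinR : Module.Finite ℤ R := inferInstance
  have htf : Module.IsTorsionFree ℤ Q := by
    refine Module.isTorsionFree_iff_smul_eq_zero.2 fun c x hx => ?_
    by_contra hh
    push Not at hh
    obtain ⟨y, rfl⟩ := Submodule.Quotient.mk_surjective _ x
    rw [← Submodule.Quotient.mk_smul, Submodule.Quotient.mk_eq_zero] at hx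
    obtain ⟨M, hM, hx⟩ := hx
    exact hh.2 ((Submodule.Quotient.mk_eq_zero T).2 ⟨M * c, mul_ne_zero hM hh.1, by
      rw [mul_smul]; exact hx⟩)
  have : Module.Free ℤ Q := Module.free_of_finite_type_torsion_free'
  have : Nontrivial Q := ⟨⟨Submodule.Quotient.mk 1, 0, fun h =>
    hone ((Submodule.Quotient.mk_eq_zero T).1 h)⟩⟩
  let b := Module.finBasis ℤ Q
  refine ⟨Module.finrank ℤ Q, Module.finrank_pos,
    (LinearMap.toMatrixAlgEquiv b).toAlgHom.toMonoidHom.comp E, fun c q hq hc => ?_⟩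
  show ∑ i ∈ Finset.range q, LinearMap.toMatrixAlgEquiv b (E (c ^ i)) = 0
  rw [← map_sum, ← map_zero (LinearMap.toMatrixAlgEquiv b)]
  congr 1
  refine Submodule.linearMap_qext _ (LinearMap.ext fun x => ?_)
  rw [LinearMap.comp_apply, LinearMap.comp_apply, LinearMap.sum_apply, LinearMap.zero_apply]
  show ∑ i ∈ Finset.range q, T.mkQ (MonoidAlgebra.of ℤ A (c ^ i) * x) = 0
  rw [← map_sum, Submodule.mkQ_apply, Submodule.Quotient.mk_eq_zero, ← Finset.sum_mul]
  refine ⟨1, one_ne_zero, ?_⟩
  rw [one_smul]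
  induction x using MonoidAlgebra.induction_on with
  | of g => exact Submodule.subset_span ⟨1, g, c, q, hq, hc, by rw [map_one, one_mul]⟩
  | add y z hy hz => rw [mul_add]; exact add_mem hy hz
  | smul a y hy => rw [mul_smul_comm]; exact J.smul_mem _ hy

theorem complement_of_injective [Finite A] [Nontrivial A] {B : Type v} [Group B] [Finite B]
    (f : A →* B) (hf : Function.Injective f)
    (h : ∃ (L : Type) (_ : Group L) (_ : Finite L) (H : Subgroup L),
      Cfsg.IsFrobeniusComplement H ∧ Nonempty (B ≃* H)) :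
    ∃ (L : Type) (_ : Group L) (_ : Finite L) (H : Subgroup L),
      Cfsg.IsFrobeniusComplement H ∧ Nonempty (A ≃* H) := by
  obtain ⟨W, _, _, _, φ, hφ⟩ := exists_fpf_of_complement h
  exact FrobExamples.exists_frobenius_of_action' (φ.comp f) (hφ.comp hf)

theorem sum_kronecker_eq_zero_right {ι κ α : Type*} [Fintype ι] [Fintype κ] (s : Finset α)
    (M : Matrix ι ι ℤ) (f : α → Matrix κ κ ℤ) (h : ∑ a ∈ s, f a = 0) :
    ∑ a ∈ s, M ⊗ₖ f a = 0 := by
  ext ⟨i, i'⟩ ⟨j, j'⟩
  have h2 : ∑ a ∈ s, f a i' j' = 0 := by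
    have := congrArg (fun N => N i' j') h
    simpa [Matrix.sum_apply] using this
  simp [Matrix.sum_apply, ← Finset.mul_sum, h2]

theorem sum_kronecker_eq_zero_left {ι κ α : Type*} [Fintype ι] [Fintype κ] (s : Finset α)
    (f : α → Matrix ι ι ℤ) (M : Matrix κ κ ℤ) (h : ∑ a ∈ s, f a = 0) :
    ∑ a ∈ s, f a ⊗ₖ M = 0 := by
  ext ⟨i, i'⟩ ⟨j, j'⟩
  have h2 : ∑ a ∈ s, f a i j = 0 := by
    have := congrArg (fun N => N i j) h
    simpa [Matrix.sum_apply] using this
  simp [Matrix.sum_apply, ← Finset.sum_mul, h2]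

/-- A product of nontrivial groups is a Frobenius complement exactly when both factors are, and
their orders are coprime. -/
theorem prod_complement_iff {A : Type u} {B : Type v} [Group A] [Finite A] [Nontrivial A]
    [Group B] [Finite B] [Nontrivial B] :
    (∃ (L : Type) (_ : Group L) (_ : Finite L) (H : Subgroup L),
      Cfsg.IsFrobeniusComplement H ∧ Nonempty ((A × B) ≃* H)) ↔
    ((∃ (L : Type) (_ : Group L) (_ : Finite L) (H : Subgroup L),
      Cfsg.IsFrobeniusComplement H ∧ Nonempty (A ≃* H)) ∧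
     (∃ (L : Type) (_ : Group L) (_ : Finite L) (H : Subgroup L),
      Cfsg.IsFrobeniusComplement H ∧ Nonempty (B ≃* H)) ∧
     (Nat.card A).Coprime (Nat.card B)) := by
  constructor
  · intro h
    refine ⟨complement_of_injective (MonoidHom.inl A B) (fun x y e => congrArg Prod.fst e) h,
      complement_of_injective (MonoidHom.inr A B) (fun x y e => congrArg Prod.snd e) h,
      Nat.coprime_of_dvd fun p hp hpA hpB => ?_⟩
    have := Fact.mk hp
    obtain ⟨a, ha⟩ := exists_prime_orderOf_dvd_card' p hpA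
    obtain ⟨b, hb⟩ := exists_prime_orderOf_dvd_card' p hpB
    obtain ⟨W, _, _, _, φ, hφ⟩ := exists_fpf_of_complement h
    let ψ : zpowers a × zpowers b →* A × B := (zpowers a).subtype.prodMap (zpowers b).subtype
    have hψ : Function.Injective ψ :=
      Function.Injective.prodMap (zpowers a).subtype_injective (zpowers b).subtype_injective
    have hc := (hφ.comp hψ).isCyclic_of_card hp hp
      (by rw [Nat.card_prod, Nat.card_zpowers, Nat.card_zpowers, ha, hb])
    have hco := (Group.isCyclic_prod_iff.1 hc).2.2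
    rw [Nat.card_zpowers, Nat.card_zpowers, ha, hb, Nat.coprime_self] at hco
    exact hp.one_lt.ne' hco
  · rintro ⟨hA, hB, hco⟩
    obtain ⟨n, hn, ρ, hρ⟩ := exists_normFree_int hA
    obtain ⟨m, hm, σ, hσ⟩ := exists_normFree_int hB
    obtain ⟨q, hqle, hq⟩ := Nat.exists_infinite_primes (Nat.card (A × B) + 1)
    have := Fact.mk hq
    have : Nonempty (Fin n × Fin m) := ⟨⟨⟨0, hn⟩, ⟨0, hm⟩⟩⟩
    let r := (Int.castRingHom (ZMod q)).mapMatrix (m := Fin n × Fin m)
    let τ : A × B →* Matrix (Fin n × Fin m) (Fin n × Fin m) ℤ :=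
      { toFun := fun x => ρ x.1 ⊗ₖ σ x.2
        map_one' := by simp
        map_mul' := fun x y => by simp [Matrix.mul_kronecker_mul] }
    refine exists_frobenius_of_normFree (q := q) (fun h => ?_)
      (r.toMonoidHom.comp τ) fun c p hp hc => ?_
    · have := Nat.le_of_dvd Nat.card_pos h
      omega
    show ∑ i ∈ Finset.range p, r (τ (c ^ i)) = 0
    rw [← map_sum]
    convert map_zero r
    obtain ⟨x, y⟩ := c
    have h1 := hc
    rw [Prod.orderOf] at h1
    have hxd : orderOf x ∣ p := h1 ▸ Nat.dvd_lcm_left _ _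
    have hyd : orderOf y ∣ p := h1 ▸ Nat.dvd_lcm_right _ _
    rcases (Nat.dvd_prime hp).1 hxd with hx | hx
    · have hy : orderOf y = p := by rw [hx, Nat.lcm_one_left] at h1; exact h1
      rw [orderOf_eq_one_iff] at hx
      subst hx
      simp only [τ, MonoidHom.coe_mk, OneHom.coe_mk, Prod.pow_fst, Prod.pow_snd, one_pow, map_one]
      exact sum_kronecker_eq_zero_right _ _ _ (hσ y p hp hy)
    · have hy : y = 1 := by
        rcases (Nat.dvd_prime hp).1 hyd with hy | hy
        · exact orderOf_eq_one_iff.1 hy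
        · exact absurd (hco ▸ Nat.dvd_gcd (hx ▸ orderOf_dvd_natCard x)
            (hy ▸ orderOf_dvd_natCard y)) hp.not_dvd_one
      subst hy
      simp only [τ, MonoidHom.coe_mk, OneHom.coe_mk, Prod.pow_fst, Prod.pow_snd, one_pow, map_one]
      exact sum_kronecker_eq_zero_left _ _ _ (hρ x p hp hx)

end Cfsg.Agent.Fg24
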