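import Cfsg.Prelude.Def_Solvable
import Cfsg.Agent.Core.Fitting
import Cfsg.Agent.Core.Solvable
import Cfsg.Agent.Coprime.SchurZassenhaus
import Cfsg.Agent.Fusion.PGroup

/-!
An elementary abelian `2`-group acting on a group with Fitting subgroup of odd order normalises
enough subgroups of prime order of the Fitting subgroup to act faithfully on their product.
-/

set_option autoImplicit false

namespace Cfsg.Agent.Fg24

open Subgroup

universe u

/-- Commuting involutory endomorphisms of a nontrivial abelian group have a common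
eigenvector with eigenvalues `±1`. -/
theorem exists_eigen {Q : Type*} [CommGroup Q] {ι : Type*} [Finite ι] (τ : ι → Q →* Q)
    (h2 : ∀ i q, τ i (τ i q) = q) (hc : ∀ i j q, τ i (τ j q) = τ j (τ i q))
    {q₀ : Q} (h0 : q₀ ≠ 1) : ∃ q, q ≠ 1 ∧ ∀ i, τ i q = q ∨ τ i q = q⁻¹ := by
  classical
  have := Fintype.ofFinite ι
  let T : Q → Finset ι := fun q => Finset.univ.filter fun i => τ i q = q ∨ τ i q = q⁻¹
  obtain ⟨F, hF, hmax⟩ := Set.Finite.exists_maximal (Set.toFinite (T '' {q | q ≠ 1}))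
    ⟨T q₀, q₀, h0, rfl⟩
  obtain ⟨q, hq, rfl⟩ := hF
  refine ⟨q, hq, fun i => ?_⟩
  by_contra hi
  push Not at hi
  set c := q * τ i q with hc'
  have hc1 : c ≠ 1 := fun h => hi.2 (eq_inv_of_mul_eq_one_right h)
  have hci : τ i c = c := by rw [hc', map_mul, h2, mul_comm]
  have hle : T q ≤ T c := by
    intro j hj
    simp only [T, Finset.mem_filter, Finset.mem_univ, true_and] at hj ⊢
    rcases hj with hj | hj
    · left; rw [hc', map_mul, hc, hj]
    · right; rw [hc', map_mul, hc, hj, map_inv, mul_inv]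
  have h3 : i ∈ T q := hmax ⟨c, hc1, rfl⟩ hle (by simp [T, hci])
  simp only [T, Finset.mem_filter, Finset.mem_univ, true_and] at h3
  tauto

variable {S : Type u} [Group S] [Finite S]

omit [Finite S] in
theorem mem_normalizer_of_forall {M : Subgroup S} {g : S} (h1 : ∀ m ∈ M, g * m * g⁻¹ ∈ M)
    (h2 : ∀ m ∈ M, g⁻¹ * m * g ∈ M) : g ∈ normalizer (M : Set S) := by
  rw [mem_normalizer_iff]
  exact fun m => ⟨h1 m, fun h => by simpa [mul_assoc] using h2 _ h⟩

omit [Finite S] in
theorem inv_eq_self_of_sq {I : Subgroup S} (hI : ∀ t ∈ I, t ^ 2 = 1) {t : S} (ht : t ∈ I) :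
    t⁻¹ = t :=
  inv_eq_of_mul_eq_one_right (sq t ▸ hI t ht)

/-- In a finite nilpotent group `F`, a maximal abelian subgroup normalised by `F` and by the
involutions of `I` is self-centralising. -/
theorem exists_selfCentralizing {F I : Subgroup S} [F.Normal] [Group.IsNilpotent F]
    (hI : ∀ t ∈ I, t ^ 2 = 1) (hIc : ∀ s ∈ I, ∀ t ∈ I, s * t = t * s) :
    ∃ A : Subgroup S, A ≤ F ∧ F ≤ normalizer (A : Set S) ∧ I ≤ normalizer (A : Set S) ∧
      IsMulCommutative A ∧ ∀ x ∈ F, x ∈ centralizer (A : Set S) → x ∈ A := by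
  classical
  obtain ⟨A, hA, hmax⟩ := Set.Finite.exists_maximal
    (Set.toFinite {A : Subgroup S | A ≤ F ∧ F ≤ normalizer (A : Set S) ∧
      I ≤ normalizer (A : Set S) ∧ IsMulCommutative A})
    ⟨⊥, bot_le, le_normalizer_of_normal, le_normalizer_of_normal, inferInstance⟩
  obtain ⟨hAF, hFA, hIA, hAc⟩ := hA
  refine ⟨A, hAF, hFA, hIA, hAc, ?_⟩
  by_contra hnot
  push Not at hnot
  obtain ⟨x₀, hx₀F, hx₀C, hx₀A⟩ := hnot
  have hAn : ∀ {g : S}, g ∈ F → ∀ a, (a ∈ A ↔ g * a * g⁻¹ ∈ A) := fun hg =>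
    mem_normalizer_iff.1 (hFA hg)
  let U : Subgroup S :=
    { carrier := {x | x ∈ F ∧ x ∈ centralizer (A : Set S) ∧ ∀ y ∈ F, x * y * x⁻¹ * y⁻¹ ∈ A}
      one_mem' := ⟨one_mem _, one_mem _, fun y _ => by simp⟩
      mul_mem' := fun {a b} ha hb => ⟨mul_mem ha.1 hb.1, mul_mem ha.2.1 hb.2.1, fun y hy => by
        have h := mul_mem ((hAn ha.1 _).1 (hb.2.2 y hy)) (ha.2.2 y hy)
        convert h using 1
        group⟩
      inv_mem' := fun {a} ha => ⟨inv_mem ha.1, inv_mem ha.2.1, fun y hy => by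
        have h := (hAn (inv_mem ha.1) _).1 (inv_mem (ha.2.2 y hy))
        convert h using 1
        group⟩ }
  have hAU : A ≤ U := fun a ha => ⟨hAF ha, le_centralizer_iff_isMulCommutative.2 hAc ha,
    fun y hy => by
      rw [show a * y * a⁻¹ * y⁻¹ = a * (y * a⁻¹ * y⁻¹) by group]
      exact mul_mem ha ((hAn hy _).1 (inv_mem ha))⟩
  -- `U` is larger than `A`
  obtain ⟨x₁, hx₁U, hx₁A⟩ : ∃ x, x ∈ U ∧ x ∉ A := by
    have hN : (A.subgroupOf F).Normal :=
      (normal_subgroupOf_iff_le_normalizer hAF).2 hFA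
    set π := QuotientGroup.mk' (A.subgroupOf F)
    have : Group.IsNilpotent (F ⧸ A.subgroupOf F) :=
      Group.nilpotent_of_surjective π (QuotientGroup.mk'_surjective _)
    set C := ((centralizer (A : Set S)).subgroupOf F).map π with hC
    have : ((centralizer (A : Set S)).subgroupOf F).Normal := ⟨fun c hc g => by
      rw [mem_subgroupOf, mem_centralizer_iff] at hc ⊢
      intro a ha
      have h := hc _ ((mem_normalizer_iff''.1 (hFA g.2) a).1 ha)
      simp only [Subgroup.coe_mul, Subgroup.coe_inv] at h ⊢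
      have h2 := congrArg (fun z => (g : S) * z * (g : S)⁻¹) h
      simpa [mul_assoc] using h2⟩
    have : C.Normal := Subgroup.Normal.map inferInstance π (QuotientGroup.mk'_surjective _)
    have hCne : C ≠ ⊥ := fun h => hx₀A (by
      have h1 : π ⟨x₀, hx₀F⟩ ∈ C := mem_map_of_mem π (mem_subgroupOf.2 hx₀C)
      rw [h, mem_bot] at h1
      exact mem_subgroupOf.1 ((QuotientGroup.eq_one_iff _).1 h1))
    obtain ⟨z, hz, hz1⟩ := (C ⊓ center _).bot_or_exists_ne_one.resolve_left
      (Core.inf_center_ne_bot hCne)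
    obtain ⟨x, hx, rfl⟩ := mem_map.1 hz.1
    refine ⟨x, ⟨x.2, mem_subgroupOf.1 hx, fun y hy => ?_⟩, fun h => hz1
      ((QuotientGroup.eq_one_iff _).2 (mem_subgroupOf.2 h))⟩
    have h1 : π (x * ⟨y, hy⟩ * x⁻¹ * ⟨y, hy⟩⁻¹) = 1 := by
      rw [map_mul, map_mul, map_mul, ← mem_center_iff.1 hz.2 (π ⟨y, hy⟩), map_inv, map_inv]
      group
    exact mem_subgroupOf.1 ((QuotientGroup.eq_one_iff _).1 h1)
  -- the quotient `U / A` is abelian and `I` acts on it
  have hUn : (A.subgroupOf U).Normal :=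
    (normal_subgroupOf_iff_le_normalizer hAU).2 fun x hx => hFA hx.1
  have hcomm : ∀ a b : U ⧸ A.subgroupOf U, a * b = b * a := by
    intro a b
    induction a using QuotientGroup.induction_on with
    | H a =>
    induction b using QuotientGroup.induction_on with
    | H b =>
      rw [← mul_inv_eq_one, mul_inv_rev, ← mul_assoc, ← QuotientGroup.mk_inv, ← QuotientGroup.mk_inv,
        ← QuotientGroup.mk_mul, ← QuotientGroup.mk_mul, ← QuotientGroup.mk_mul,
        QuotientGroup.eq_one_iff, mem_subgroupOf]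
      exact a.2.2.2 b b.2.1
  let _ : CommGroup (U ⧸ A.subgroupOf U) :=
    { (inferInstance : Group (U ⧸ A.subgroupOf U)) with mul_comm := hcomm }
  have hIU : ∀ t ∈ I, ∀ u ∈ U, t * u * t⁻¹ ∈ U := by
    intro t ht u hu
    refine ⟨(inferInstance : F.Normal).conj_mem _ hu.1 t, mem_centralizer_iff.2 fun a ha => ?_,
      fun y hy => ?_⟩
    · have h := mem_centralizer_iff.1 hu.2.1 _ ((mem_normalizer_iff''.1 (hIA ht) a).1 ha)
      have h2 := congrArg (fun z => t * z * t⁻¹) h
      simpa [mul_assoc] using h2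
    · have h := (mem_normalizer_iff.1 (hIA ht) _).1
        (hu.2.2 _ ((inferInstance : F.Normal).conj_mem _ hy t⁻¹))
      convert h using 1
      group
  let e : I → (U →* U) := fun t =>
    { toFun := fun u => ⟨t * u * (t : S)⁻¹, hIU t t.2 u u.2⟩
      map_one' := Subtype.ext (by simp)
      map_mul' := fun a b => Subtype.ext (by simp [mul_assoc]) }
  let τ : I → (U ⧸ A.subgroupOf U →* U ⧸ A.subgroupOf U) := fun t =>
    QuotientGroup.map _ _ (e t) fun u hu => by
      rw [mem_comap, mem_subgroupOf] at *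
      exact (mem_normalizer_iff.1 (hIA t.2) _).1 hu
  have h2 : ∀ t q, τ t (τ t q) = q := by
    intro t q
    induction q using QuotientGroup.induction_on with
    | H q =>
      show ((e t (e t q) : U) : U ⧸ A.subgroupOf U) = q
      congr 1
      refine Subtype.ext ?_
      show (t : S) * ((t : S) * q * (t : S)⁻¹) * (t : S)⁻¹ = q
      rw [inv_eq_self_of_sq hI t.2]
      have := hI t t.2
      rw [sq] at this
      rw [show (t : S) * (t * q * t) * t = (t * t) * q * (t * t) by group, this, one_mul, mul_one]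
  have hcc : ∀ s t q, τ s (τ t q) = τ t (τ s q) := by
    intro s t q
    induction q using QuotientGroup.induction_on with
    | H q =>
      show ((e s (e t q) : U) : U ⧸ A.subgroupOf U) = ((e t (e s q) : U) : U ⧸ A.subgroupOf U)
      congr 1
      refine Subtype.ext ?_
      show (s : S) * ((t : S) * q * (t : S)⁻¹) * (s : S)⁻¹ = t * (s * q * (s : S)⁻¹) * (t : S)⁻¹
      rw [show (s : S) * (t * q * (t : S)⁻¹) * (s : S)⁻¹ = (s * t) * q * ((s : S) * t)⁻¹ by group,
        hIc s s.2 t t.2]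
      group
  obtain ⟨q, hq1, hqe⟩ := exists_eigen τ h2 hcc (q₀ := ((⟨x₁, hx₁U⟩ : U) : U ⧸ A.subgroupOf U))
    fun h => hx₁A (mem_subgroupOf.1 ((QuotientGroup.eq_one_iff _).1 h))
  obtain ⟨⟨x, hxU⟩, rfl⟩ := QuotientGroup.mk_surjective q
  have hxA : x ∉ A := fun h => hq1 ((QuotientGroup.eq_one_iff _).2 (mem_subgroupOf.2 h))
  -- the bigger abelian subgroup
  set M := A ⊔ zpowers x with hM
  have hnorm : ∀ g : S, (∀ a ∈ A, g * a * g⁻¹ ∈ A) → g * x * g⁻¹ ∈ M → ∀ m ∈ M,
      g * m * g⁻¹ ∈ M := fun g ha hx m hm => by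
    have h : M.map (MulAut.conj g).toMonoidHom ≤ M := by
      rw [hM, Subgroup.map_sup, MonoidHom.map_zpowers, sup_le_iff, zpowers_le]
      exact ⟨fun y ⟨a, haA, e⟩ => e ▸ mem_sup_left (ha a haA), hx⟩
    exact h ⟨m, hm, rfl⟩
  have hMF : F ≤ normalizer (M : Set S) := by
    have h1 : ∀ y ∈ F, ∀ m ∈ M, y * m * y⁻¹ ∈ M := fun y hy =>
      hnorm y (fun a => (hAn hy a).1) (by
        rw [show y * x * y⁻¹ = (x * y * x⁻¹ * y⁻¹)⁻¹ * x by group]
        exact mul_mem (mem_sup_left (inv_mem (hxU.2.2 y hy))) (mem_sup_right (mem_zpowers x)))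
    exact fun y hy => mem_normalizer_of_forall (h1 y hy) fun m hm => by
      simpa using h1 y⁻¹ (inv_mem hy) m hm
  have hMI : I ≤ normalizer (M : Set S) := by
    have h1 : ∀ t ∈ I, ∀ m ∈ M, t * m * t⁻¹ ∈ M := fun t ht =>
      hnorm t (fun a => (mem_normalizer_iff.1 (hIA ht) a).1) (by
        have hd : ∀ z : U, ((e ⟨t, ht⟩ ⟨x, hxU⟩ : U) : U ⧸ A.subgroupOf U) = z →
            (z : S) ∈ M → t * x * t⁻¹ ∈ M := fun z hz hzM => by
          have h := mem_subgroupOf.1 (QuotientGroup.eq.1 hz.symm)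
          have h' := mul_mem hzM (mem_sup_left h : _ ∈ M)
          simpa [e] using h'
        rcases hqe ⟨t, ht⟩ with h | h
        · exact hd ⟨x, hxU⟩ h (mem_sup_right (mem_zpowers x))
        · exact hd ⟨x, hxU⟩⁻¹ h (mem_sup_right (inv_mem (mem_zpowers x))))
    exact fun t ht => mem_normalizer_of_forall (h1 t ht) fun m hm => by
      simpa using h1 t⁻¹ (inv_mem ht) m hm
  refine hxA (hmax ⟨sup_le hAF (zpowers_le.2 hxU.1), hMF, hMI, ?_⟩ le_sup_left
    (mem_sup_right (mem_zpowers x)))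
  exact Fusion.isMulCommutative_sup_of_le_centralizer hAc inferInstance
    (le_centralizer_iff.mp (zpowers_le.mpr hxU.2.1))

/-- A nontrivial involution of `I` acting on an abelian odd group `A` inverts an element of prime
order spanning a subgroup normalised by `I`. -/
theorem exists_inverted {A I : Subgroup S} [IsMulCommutative A] (hIA : I ≤ normalizer (A : Set S))
    (hI : ∀ t ∈ I, t ^ 2 = 1) (hIc : ∀ s ∈ I, ∀ t ∈ I, s * t = t * s) {i : S} (hi : i ∈ I)
    (hne : ∃ a ∈ A, i * a * i⁻¹ ≠ a) :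
    ∃ x ∈ A, (orderOf x).Prime ∧ i * x * i⁻¹ = x⁻¹ ∧
      ∀ t ∈ I, t * x * t⁻¹ = x ∨ t * x * t⁻¹ = x⁻¹ := by
  classical
  have hA : ∀ a ∈ A, ∀ b ∈ A, a * b = b * a := fun a ha b hb =>
    congrArg Subtype.val (‹IsMulCommutative A›.is_comm.comm ⟨a, ha⟩ ⟨b, hb⟩)
  have hii : i * i = 1 := sq i ▸ hI i hi
  have hin := inv_eq_self_of_sq hI hi
  obtain ⟨a, ha, hane⟩ := hne
  have hca := (mem_normalizer_iff.1 (hIA hi) a).1 ha
  set b := i * a * i⁻¹ * a⁻¹ with hb
  have hbA : b ∈ A := mul_mem hca (inv_mem ha)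
  have hb1 : b ≠ 1 := fun h => hane (mul_inv_eq_one.1 h)
  have hbinv : i * b * i⁻¹ = b⁻¹ := by
    rw [show b⁻¹ = a * (i * a * i⁻¹)⁻¹ by rw [hb]; group, hA a ha _ (inv_mem hca), hb]
    simp only [hin, mul_inv_rev]
    rw [show i * (i * a * i * a⁻¹) * i = (i * i) * a * (i * a⁻¹ * i) by group, hii, one_mul,
      hA a ha (i * a⁻¹ * i) (by simpa [hin, mul_assoc] using inv_mem hca)]
    group
  obtain ⟨p, hp, hpb⟩ := Nat.exists_prime_and_dvd (orderOf_eq_one_iff.not.2 hb1)
  let U : Subgroup S :=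
    { carrier := {u | u ∈ A ∧ u ^ p = 1 ∧ i * u * i⁻¹ = u⁻¹}
      one_mem' := ⟨one_mem _, one_pow _, by simp⟩
      mul_mem' := fun {u v} hu hv => ⟨mul_mem hu.1 hv.1, by
        rw [(show Commute u v from hA u hu.1 v hv.1).mul_pow, hu.2.1, hv.2.1, one_mul], by
        rw [show i * (u * v) * i⁻¹ = i * u * i⁻¹ * (i * v * i⁻¹) by group, hu.2.2, hv.2.2,
          mul_inv_rev, hA _ (inv_mem hu.1) _ (inv_mem hv.1)]⟩
      inv_mem' := fun {u} hu => ⟨inv_mem hu.1, by rw [inv_pow, hu.2.1, inv_one], by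
        rw [show i * u⁻¹ * i⁻¹ = (i * u * i⁻¹)⁻¹ by group, hu.2.2]⟩ }
  have hIU : ∀ t ∈ I, ∀ u ∈ U, t * u * t⁻¹ ∈ U := fun t ht u hu =>
    ⟨(mem_normalizer_iff.1 (hIA ht) u).1 hu.1, by rw [conj_pow, hu.2.1]; group, by
      rw [show i * (t * u * t⁻¹) * i⁻¹ = (i * t) * u * (i * t)⁻¹ by group, hIc i hi t ht,
        show t * i * u * (t * i)⁻¹ = t * (i * u * i⁻¹) * t⁻¹ by group, hu.2.2]
      group⟩
  let _ : CommGroup U :=
    { (inferInstance : Group U) with mul_comm := fun u v => Subtype.ext (hA u u.2.1 v v.2.1) }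
  let τ : I → (U →* U) := fun t =>
    { toFun := fun u => ⟨t * u * (t : S)⁻¹, hIU t t.2 u u.2⟩
      map_one' := Subtype.ext (by simp)
      map_mul' := fun a b => Subtype.ext (by simp [mul_assoc]) }
  set c := b ^ (orderOf b / p) with hc
  have hco : orderOf c = p := orderOf_pow_orderOf_div (orderOf_pos b).ne' hpb
  have hcU : c ∈ U := ⟨pow_mem hbA _, hco ▸ pow_orderOf_eq_one c, by
    rw [hc, ← conj_pow, hbinv, inv_pow]⟩
  obtain ⟨x, hx1, hxe⟩ := exists_eigen τ
    (fun t u => Subtype.ext (by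
      show (t : S) * ((t : S) * u * (t : S)⁻¹) * (t : S)⁻¹ = u
      have := hI t t.2
      rw [sq] at this
      rw [inv_eq_self_of_sq hI t.2,
        show (t : S) * (t * u * t) * t = (t * t) * u * (t * t) by group, this, one_mul, mul_one]))
    (fun s t u => Subtype.ext (by
      show (s : S) * ((t : S) * u * (t : S)⁻¹) * (s : S)⁻¹ = t * (s * u * (s : S)⁻¹) * (t : S)⁻¹
      rw [show (s : S) * (t * u * (t : S)⁻¹) * (s : S)⁻¹ = (s * t) * u * ((s : S) * t)⁻¹ by group,
        hIc s s.2 t t.2]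
      group))
    (q₀ := (⟨c, hcU⟩ : U)) (fun h => hp.one_lt.ne' (by
      rw [← hco, show c = 1 from congrArg Subtype.val h, orderOf_one]))
  refine ⟨x, x.2.1, ?_, x.2.2.2, fun t ht =>
    (hxe ⟨t, ht⟩).imp (congrArg Subtype.val) (congrArg Subtype.val)⟩
  have := Fact.mk hp
  rw [orderOf_eq_prime x.2.2.1 fun h => hx1 (Subtype.ext h)]
  exact hp

omit [Finite S] in
theorem iSup_zpowers_snoc {k : ℕ} (f : Fin k → S) (x : S) :
    (⨆ j, zpowers ((Fin.snoc f x : Fin (k + 1) → S) j)) = (⨆ j, zpowers (f j)) ⊔ zpowers x := by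
  refine le_antisymm (iSup_le fun j => ?_) (sup_le (iSup_le fun j => ?_) ?_)
  · induction j using Fin.lastCases with
    | last => rw [Fin.snoc_last]; exact le_sup_right
    | cast l =>
      rw [Fin.snoc_castSucc]
      exact le_sup_of_le_left (le_iSup (fun l => zpowers (f l)) l)
  · refine le_iSup_of_le j.castSucc ?_
    rw [Fin.snoc_castSucc]
  · refine le_iSup_of_le (Fin.last k) ?_
    rw [Fin.snoc_last]

/-- The main statement, with elements. -/
theorem exists_frame [Group.IsSolvable S] (hF : Odd (Nat.card (Cfsg.fittingSubgroup S)))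
    {I : Subgroup S} (hI : ∀ t ∈ I, t ^ 2 = 1) (hIc : ∀ s ∈ I, ∀ t ∈ I, s * t = t * s) (n : ℕ)
    (hIn : Nat.card I = 2 ^ n) :
    ∃ f : Fin n → S, (∀ k, (orderOf (f k)).Prime) ∧ (∀ k, f k ∈ Cfsg.fittingSubgroup S) ∧
      (∀ k, ∀ t ∈ I, t * f k * t⁻¹ = f k ∨ t * f k * t⁻¹ = (f k)⁻¹) ∧
      (∀ j k, f j * f k = f k * f j) ∧
      Nat.card (⨆ k, zpowers (f k) : Subgroup S) = ∏ k, orderOf (f k) ∧
      I ⊓ centralizer ((⨆ k, zpowers (f k) : Subgroup S) : Set S) = ⊥ := by
  classical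
  set F := Cfsg.fittingSubgroup S with hFdef
  have : Group.IsNilpotent F := Core.fittingSubgroup_isNilpotent
  have : F.Normal := inferInstanceAs (Cfsg.fittingSubgroup S).Normal
  obtain ⟨A, hAF, hFA, hIA, hAc, hCA⟩ := exists_selfCentralizing (F := F) hI hIc
  have hodd : ∀ y ∈ F, y * y = 1 → y = 1 := by
    intro y hy h
    have h1 : orderOf y ∣ 2 := orderOf_dvd_of_pow_eq_one (by rw [sq, h])
    have h2 : orderOf y ∣ Nat.card F := orderOf_dvd_natCard F hy
    have h3 : orderOf y ∣ Nat.gcd 2 (Nat.card F) := Nat.dvd_gcd h1 h2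
    rw [(Nat.coprime_two_left.2 hF).gcd_eq_one] at h3
    exact orderOf_eq_one_iff.1 (Nat.dvd_one.1 h3)
  -- `I` is faithful on `A`
  have hfaith : ∀ i ∈ I, (∀ a ∈ A, i * a * i⁻¹ = a) → i = 1 := by
    intro i hi hfix
    have hin := inv_eq_self_of_sq hI hi
    have hcen : i ∈ centralizer (F : Set S) := mem_centralizer_iff.2 fun y hy => by
      have hiy : i * y * i⁻¹ ∈ F := (inferInstance : F.Normal).conj_mem y hy i
      set d := y⁻¹ * (i * y * i⁻¹) with hd
      have hdA : d ∈ A := by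
        refine hCA d (mul_mem (inv_mem hy) hiy) (mem_centralizer_iff.2 fun a ha => ?_)
        have hya := (mem_normalizer_iff.1 (hFA hy) a).1 ha
        have h1 := hfix _ hya
        have h2 := hfix a ha
        calc a * d = y⁻¹ * (y * a * y⁻¹) * (i * y * i⁻¹) := by rw [hd]; group
          _ = y⁻¹ * (i * (y * a * y⁻¹) * i⁻¹) * (i * y * i⁻¹) := by rw [h1]
          _ = y⁻¹ * (i * y * i⁻¹) * (i * a * i⁻¹) := by group
          _ = d * a := by rw [h2]
      have h1 : i * y * i⁻¹ = y * d := by rw [hd]; group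
      have h2 : y = y * (d * d) := by
        calc y = (i * i) * y * (i * i)⁻¹ := by rw [show i * i = 1 from sq i ▸ hI i hi]; group
          _ = i * (i * y * i⁻¹) * i⁻¹ := by group
          _ = (i * y * i⁻¹) * (i * d * i⁻¹) := by
            conv_lhs => rw [h1]
            group

          _ = y * (d * d) := by rw [h1, hfix d hdA]; group
      have h3 : d = 1 := hodd d (hAF hdA) (left_eq_mul.1 h2)
      rw [h3, mul_one, mul_inv_eq_iff_eq_mul] at h1
      exact h1.symm
    exact hodd i (Core.centralizer_fittingSubgroup_le hcen) (sq i ▸ hI i hi)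
  suffices h : ∀ k : ℕ, k ≤ n → ∃ f : Fin k → S, (∀ j, (orderOf (f j)).Prime) ∧
      (∀ j, f j ∈ A) ∧ (∀ j, ∀ t ∈ I, t * f j * t⁻¹ = f j ∨ t * f j * t⁻¹ = (f j)⁻¹) ∧
      Nat.card (⨆ j, zpowers (f j) : Subgroup S) = ∏ j, orderOf (f j) ∧
      Nat.card (I ⊓ centralizer ((⨆ j, zpowers (f j) : Subgroup S) : Set S) : Subgroup S) =
        2 ^ (n - k) by
    obtain ⟨f, h1, h2, h3, h4, h5⟩ := h n le_rfl
    refine ⟨f, h1, fun j => hAF (h2 j), h3,
      fun j l => congrArg Subtype.val (hAc.is_comm.comm ⟨_, h2 j⟩ ⟨_, h2 l⟩), h4, ?_⟩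
    rw [Nat.sub_self, pow_zero] at h5
    exact card_eq_one.1 h5
  intro k
  induction k with
  | zero =>
    intro _
    refine ⟨Fin.elim0, fun j => j.elim0, fun j => j.elim0, fun j => j.elim0, ?_, ?_⟩
    · simp [iSup_of_empty]
    · rw [iSup_of_empty, show centralizer ((⊥ : Subgroup S) : Set S) = ⊤ from
        eq_top_iff.2 fun g _ => mem_centralizer_iff.2 fun z hz => by simp [mem_bot.1 hz],
        inf_top_eq, hIn, Nat.sub_zero]
  | succ k ih =>
    intro hk
    obtain ⟨f, h1, h2, h3, h4, h5⟩ := ih (by omega)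
    set W : Subgroup S := ⨆ j, zpowers (f j) with hW
    set J := I ⊓ centralizer (W : Set S) with hJ
    have hWA : W ≤ A := iSup_le fun j => zpowers_le.2 (h2 j)
    obtain ⟨i, hiJ, hi1⟩ := J.bot_or_exists_ne_one.resolve_left fun h => by
      rw [h, card_bot] at h5
      exact absurd h5.symm (Nat.one_lt_two_pow (by omega)).ne'
    obtain ⟨x, hxA, hxp, hxi, hxe⟩ := exists_inverted hIA hI hIc hiJ.1 (by
      by_contra h; push Not at h; exact hi1 (hfaith i hiJ.1 h))
    have hxne : x ≠ x⁻¹ := fun h => hxp.one_lt.ne' (orderOf_eq_one_iff.2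
      (hodd x (hAF hxA) (by conv_lhs => arg 2; rw [h]
                            exact mul_inv_cancel x)))
    have hxW : x ∉ W := fun h => hxne (by
      have h' := mem_centralizer_iff.1 hiJ.2 x h
      rw [← hxi, ← h', mul_inv_cancel_right])
    refine ⟨Fin.snoc f x, Fin.lastCases (by simpa using hxp) (by simpa using h1),
      Fin.lastCases (by simpa using hxA) (by simpa using h2),
      Fin.lastCases (by simpa using hxe) (by simpa using h3), ?_, ?_⟩
    all_goals rw [iSup_zpowers_snoc f x, ← hW]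
    · have hinf : W ⊓ zpowers x = ⊥ := by
        have : Fact (Nat.card (zpowers x)).Prime := ⟨Nat.card_zpowers x ▸ hxp⟩
        rcases (W.subgroupOf (zpowers x)).eq_bot_or_eq_top_of_prime_card with h | h
        · rwa [subgroupOf_eq_bot, disjoint_iff] at h
        · exact absurd ((subgroupOf_eq_top.1 h) (mem_zpowers x)) hxW
      have hnx : zpowers x ≤ normalizer (W : Set S) :=
        ((le_centralizer_iff_isMulCommutative.2 hAc).trans
          (centralizer_le hWA) |>.trans (centralizer_le_normalizer _)) |>.trans' (zpowers_le.2 hxA)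
      rw [Coprime.card_sup_eq_mul hnx (inf_comm W (zpowers x) ▸ hinf), h4, Nat.card_zpowers,
        Fin.prod_univ_castSucc]
      simp
    · have hC : I ⊓ centralizer ((W ⊔ zpowers x : Subgroup S) : Set S) =
          J ⊓ centralizer ({x} : Set S) := by
        ext t
        simp only [hJ, mem_inf, mem_centralizer_singleton_iff]
        refine ⟨fun h => ⟨⟨h.1, centralizer_le (le_sup_left : W ≤ W ⊔ zpowers x) h.2⟩,
          (mem_centralizer_iff.1 h.2 x (mem_sup_right (mem_zpowers x))).symm⟩,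
          fun ⟨⟨h, hW'⟩, hx'⟩ => ⟨h, ?_⟩⟩
        have h7 : W ⊔ zpowers x ≤ centralizer ({t} : Set S) := sup_le
          (fun w hw => mem_centralizer_singleton_iff.2 (mem_centralizer_iff.1 hW' w hw))
          (zpowers_le.2 (mem_centralizer_singleton_iff.2 hx'.symm))
        exact mem_centralizer_iff.2 fun w hw => mem_centralizer_singleton_iff.1 (h7 hw)
      rw [hC]
      have hidx : ((J ⊓ centralizer ({x} : Set S)).subgroupOf J).index = 2 := by
        rw [index_eq_two_iff]
        refine ⟨⟨i, hiJ⟩, fun b => ?_⟩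
        simp only [mem_subgroupOf, Subgroup.coe_mul, mem_inf, mem_centralizer_singleton_iff]
        have hbi : (b : S) * i * x * ((b : S) * i)⁻¹ = ((b : S) * x * (b : S)⁻¹)⁻¹ := by
          rw [show (b : S) * i * x * ((b : S) * i)⁻¹ = b * (i * x * i⁻¹) * (b : S)⁻¹ by group, hxi]
          group
        rcases hxe b b.2.1 with hb | hb
        · right
          refine ⟨⟨b.2, mul_inv_eq_iff_eq_mul.1 hb⟩, fun h => hxne ?_⟩
          have h2 := mul_inv_eq_iff_eq_mul.2 h.2
          rw [hbi, hb] at h2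
          exact h2.symm
        · left
          refine ⟨⟨mul_mem b.2 hiJ, mul_inv_eq_iff_eq_mul.1 (by rw [hbi, hb, inv_inv])⟩,
            fun h => hxne ?_⟩
          rw [← hb, mul_inv_eq_iff_eq_mul.2 h.2]
      have hcard := ((J ⊓ centralizer ({x} : Set S)).subgroupOf J).card_mul_index
      rw [hidx, Nat.card_congr (subgroupOfEquivOfLe inf_le_left).toEquiv, h5,
        show n - k = n - (k + 1) + 1 by omega, pow_succ] at hcard
      exact mul_right_cancel₀ two_ne_zero hcard

end Cfsg.Agent.Fg24
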