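import Cfsg.Agent.Core.FrobeniusGroup
import Cfsg.Agent.FrobExamples.Basic
import Mathlib.NumberTheory.LSeries.PrimesInAP
import Mathlib.NumberTheory.SumTwoSquares

/-!
Frobenius groups with quaternion complement of order 8 have kernel of odd square order.
-/

set_option autoImplicit false

namespace Cfsg.Agent.Fg24

open Subgroup QuaternionGroup
open scoped Pointwise

/-- `-1` is a sum of two squares modulo an odd number. -/
theorem exists_sq_add_sq_neg_one {N : ℕ} (hN : Odd N) :
    ∃ a b : ℤ, ((a * a + b * b + 1 : ℤ) : ZMod N) = 0 := by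
  have hN0 : N ≠ 0 := by rintro rfl; simp at hN
  have hcop : Nat.Coprime N 4 := by
    have := (Nat.coprime_two_right.2 hN).pow_right 2
    simpa using this
  obtain ⟨c, hc1, hc2⟩ := Nat.chineseRemainder hcop (N - 1) 1
  have hcN : c.Coprime (N * 4) := by
    refine Nat.Coprime.mul_right ?_ ?_
    · rw [Nat.Coprime, hc1.gcd_eq]
      show Nat.Coprime (N - 1) N
      have h := Nat.coprime_self_sub_left (m := 1) (n := N) (Nat.one_le_iff_ne_zero.2 hN0)
      exact h.2 (Nat.coprime_one_left N)
    · rw [Nat.Coprime, hc2.gcd_eq]; rfl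
  obtain ⟨P, -, hP, hPc⟩ :=
    Nat.forall_exists_prime_gt_and_modEq 2 (Nat.mul_ne_zero hN0 four_ne_zero) hcN
  have := Fact.mk hP
  have h4 : P % 4 = 1 := ((hPc.of_dvd (dvd_mul_left 4 N)).trans hc2)
  obtain ⟨a, b, hab⟩ := Nat.Prime.sq_add_sq (p := P) (by omega)
  refine ⟨a, b, ?_⟩
  have h5 : ((P : ℕ) : ZMod N) = ((N - 1 : ℕ) : ZMod N) :=
    (ZMod.natCast_eq_natCast_iff _ _ _).2 ((hPc.of_dvd (dvd_mul_right N 4)).trans hc1)
  rw [← hab, Nat.cast_sub (Nat.one_le_iff_ne_zero.2 hN0), ZMod.natCast_self] at h5
  push_cast at h5 ⊢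
  linear_combination h5

/-- An odd abelian group with anticommuting square roots of `-1` has square order. -/
theorem isSquare_card_of_anticomm {W : Type*} [AddCommGroup W] [Finite W] (hodd : Odd (Nat.card W))
    (I J : AddMonoid.End W) (hI : ∀ v, I (I v) = -v) (hJ : ∀ v, J (J v) = -v)
    (hIJ : ∀ v, I (J v) = -J (I v)) : IsSquare (Nat.card W) := by
  obtain ⟨a, b, hab⟩ := exists_sq_add_sq_neg_one hodd
  rw [ZMod.intCast_zmod_eq_zero_iff_dvd] at hab
  have hab' : ∀ v : W, (a * a + b * b + 1) • v = 0 := fun v => by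
    obtain ⟨c, hc⟩ := hab
    rw [hc, mul_comm, mul_zsmul, natCast_zsmul, card_nsmul_eq_zero', zsmul_zero]
  let u : W →+ W :=
    { toFun := fun v => a • I v + b • J v
      map_zero' := by simp
      map_add' := fun x y => by simp only [map_add, smul_add]; abel }
  have hu : ∀ v, u (u v) = v := by
    intro v
    show a • I (a • I v + b • J v) + b • J (a • I v + b • J v) = v
    simp only [map_add, map_zsmul, hI, hJ, hIJ]
    have := hab' v
    rw [add_smul, add_smul, one_smul] at this
    simp only [smul_add, smul_neg, smul_smul]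
    rw [mul_comm b a]
    linear_combination (norm := abel) -this
  let w : W → W := fun v => I (J v)
  have hwu : ∀ v, u (w v) = -w (u v) := by
    intro v
    show a • I (I (J v)) + b • J (I (J v)) = -I (J (a • I v + b • J v))
    simp only [map_add, map_zsmul, hI, hJ, hIJ, map_neg, smul_neg, neg_neg]
    abel
  have hwinv : ∀ v, w (w v) = -v := fun v => by
    show I (J (I (J v))) = -v
    rw [hIJ v, map_neg, hJ, map_neg, map_neg, hI, neg_neg]
  have h2 : Function.Bijective fun v : W => v + v := by
    refine Finite.injective_iff_bijective.1 fun x y hxy => ?_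
    have h1 : addOrderOf (x - y) ∣ 2 := addOrderOf_dvd_of_nsmul_eq_zero (by
      rw [two_nsmul]; rw [show x - y + (x - y) = (x + x) - (y + y) by abel,
        show x + x = y + y from hxy, sub_self])
    have h3 := Nat.dvd_gcd h1 (addOrderOf_dvd_natCard (x - y))
    rw [(Nat.coprime_two_left.2 hodd).gcd_eq_one, Nat.dvd_one, AddMonoid.addOrderOf_eq_one_iff] at h3
    exact sub_eq_zero.1 h3
  let Wp : Type _ := {v : W // u v = v}
  let Wm : Type _ := {v : W // u v = -v}
  have e1 : Nat.card W = Nat.card (Wp × Wm) := by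
    let f : W → Wp × Wm := fun v => (⟨v + u v, by rw [map_add, hu, add_comm]⟩,
      ⟨v - u v, by rw [map_sub, hu, neg_sub]⟩)
    refine Nat.card_eq_of_bijective f ⟨fun x y hxy => ?_, fun z => ?_⟩
    · have hp := congrArg (fun z => (z.1 : W)) hxy
      have hm := congrArg (fun z => (z.2 : W)) hxy
      apply h2.1
      show x + x = y + y
      calc x + x = (x + u x) + (x - u x) := by abel
        _ = (y + u y) + (y - u y) := by rw [show x + u x = y + u y from hp, show x - u x = y - u y from hm]
        _ = y + y := by abel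
    · obtain ⟨v, hv⟩ := h2.2 ((z.1 : W) + z.2)
      have hv' : v + v = (z.1 : W) + z.2 := hv
      have hu' : u v + u v = (z.1 : W) - z.2 := by
        rw [← map_add, hv', map_add, z.1.2, z.2.2, sub_eq_add_neg]
      refine ⟨v, Prod.ext (Subtype.ext (h2.1 ?_)) (Subtype.ext (h2.1 ?_))⟩
      · show v + u v + (v + u v) = (z.1 : W) + z.1
        calc v + u v + (v + u v) = (v + v) + (u v + u v) := by abel
          _ = _ := by rw [hv', hu']; abel
      · show v - u v + (v - u v) = (z.2 : W) + z.2
        calc v - u v + (v - u v) = (v + v) - (u v + u v) := by abel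
          _ = _ := by rw [hv', hu']; abel
  have e2 : Nat.card Wm = Nat.card Wp := by
    have hwI : Function.Injective w := fun x y h => neg_injective (by rw [← hwinv, ← hwinv, h])
    refine le_antisymm
      (Nat.card_le_card_of_injective
        (fun v : Wm => (⟨w v.1, by rw [hwu, v.2]; simp [w]⟩ : Wp))
        fun x y h => Subtype.ext (hwI (congrArg Subtype.val h)))
      (Nat.card_le_card_of_injective
        (fun v : Wp => (⟨w v.1, by rw [hwu, v.2]⟩ : Wm))
        fun x y h => Subtype.ext (hwI (congrArg Subtype.val h)))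
  exact ⟨Nat.card Wp, by rw [e1, Nat.card_prod, e2]⟩

/-- The kernel of a Frobenius group with quaternion complement of order 8. -/
theorem kernel_card_of_quaternion {L : Type} [Group L] [Finite L] {H : Subgroup L}
    (hH : Cfsg.IsFrobeniusComplement H) (e : H ≃* QuaternionGroup 2) :
    Odd (Nat.card (Cfsg.frobeniusKernel H)) ∧ IsSquare (Nat.card (Cfsg.frobeniusKernel H)) ∧
      1 < Nat.card (Cfsg.frobeniusKernel H) := by
  obtain ⟨N, hN, hNn, hNH⟩ := Core.exists_frobeniusKernel hH
  rw [← hN, SetLike.coe_sort_coe]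
  have h8 : Nat.card H = 8 := by
    rw [Nat.card_congr e.toEquiv, Nat.card_eq_fintype_card, QuaternionGroup.card]
  have hidx : Nat.card N = H.index := hNH.index_eq_card.symm
  have hodd : Odd (Nat.card N) := by
    have h := Core.coprime_card_index_of_isFrobeniusComplement hH
    rw [h8, ← hidx, show 8 = 2 ^ 3 by norm_num, Nat.coprime_pow_left_iff (by norm_num)] at h
    exact Nat.coprime_two_left.1 h
  have h1 : 1 < Nat.card N := by
    have hne : H.index ≠ 1 := fun h => hH.2.1 (index_eq_one.1 h)
    have : 0 < H.index := Nat.pos_of_ne_zero index_ne_zero_of_finite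
    omega
  refine ⟨hodd, ?_, h1⟩
  let act : QuaternionGroup 2 →* MulAut N :=
    (MulAut.conjNormal (H := N)).comp (H.subtype.comp e.symm.toMonoidHom)
  have hval : ∀ (q : QuaternionGroup 2) (n : N),
      ((act q n : N) : L) = (e.symm q : L) * n * (e.symm q : L)⁻¹ := fun q n => by
    simp [act]
  -- fixed-point freeness
  have hfpf : ∀ (q : QuaternionGroup 2) (n : N), q ≠ 1 → act q n = n → n = 1 := by
    intro q n hq hn
    set h : H := e.symm q with hh
    have hh1 : (h : L) ≠ 1 := fun h' => hq (by
      have h2 : h = 1 := Subtype.ext h'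
      have h3 : e h = q := e.apply_symm_apply q
      rw [h2, map_one] at h3
      exact h3.symm)
    by_contra hne
    have hn' : (h : L) * n * (h : L)⁻¹ = n := by rw [← hval, hn]
    have hnH : (n : L) ∉ H := fun hc => hne (Subtype.ext (by
      have h3 : (n : L) ∈ N ⊓ H := ⟨n.2, hc⟩
      rwa [disjoint_iff.1 hNH.disjoint, mem_bot] at h3))
    refine hh1 (Core.malnormal_of_isFrobeniusComplement hH (n : L) hnH h h.2 ?_)
    have h4 : (h : L) * n = n * h := mul_inv_eq_iff_eq_mul.1 hn'
    rw [← h4, mul_inv_cancel_right]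
    exact h.2
  set z : QuaternionGroup 2 := a 2
  -- `z` inverts `N`
  have hinv : ∀ n : N, act z n = n⁻¹ := by
    intro n
    have hbij : Function.Bijective fun m : N => m⁻¹ * act z m := by
      refine Finite.injective_iff_bijective.1 fun x y hxy => ?_
      have hxy' : x⁻¹ * act z x = y⁻¹ * act z y := hxy
      have h2 : act z (y * x⁻¹) = y * x⁻¹ := by
        rw [map_mul, map_inv, show act z y = y * (x⁻¹ * act z x) by rw [hxy']; group]
        group
      have := hfpf z _ (by decide) h2
      exact (mul_inv_eq_one.1 this).symm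
    obtain ⟨m, rfl⟩ := hbij.2 n
    have hzz : act z (act z m) = m := by
      rw [← MulAut.mul_apply, ← map_mul, show z * z = 1 by decide, map_one]; rfl
    show act z (m⁻¹ * act z m) = (m⁻¹ * act z m)⁻¹
    rw [map_mul, map_inv, hzz]; group
  let _ : CommGroup N :=
    { (inferInstance : Group N) with
      mul_comm := fun x y => inv_injective (by
        rw [← hinv, map_mul, hinv, hinv, mul_inv_rev]) }
  let I : AddMonoid.End (Additive N) := MonoidHom.toAdditive (act (a 1)).toMonoidHom
  let J : AddMonoid.End (Additive N) := MonoidHom.toAdditive (act (xa 0)).toMonoidHom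
  have hodd' : Odd (Nat.card (Additive N)) := hodd
  have key : ∀ (q r : QuaternionGroup 2) (v : Additive N),
      Additive.ofMul (act q (act r v.toMul)) = Additive.ofMul (act (q * r) v.toMul) := fun q r v => by
    rw [map_mul, MulAut.mul_apply]
  show IsSquare (Nat.card (Additive N))
  refine isSquare_card_of_anticomm (W := Additive N) hodd' I J (fun v => ?_) (fun v => ?_) (fun v => ?_)
  · show Additive.ofMul (act (a 1) (act (a 1) v.toMul)) = _
    rw [key, show (a 1 : QuaternionGroup 2) * a 1 = z by decide, hinv]; rfl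
  · show Additive.ofMul (act (xa 0) (act (xa 0) v.toMul)) = _
    rw [key, show (xa 0 : QuaternionGroup 2) * xa 0 = z by decide, hinv]; rfl
  · show Additive.ofMul (act (a 1) (act (xa 0) v.toMul)) =
      -Additive.ofMul (act (xa 0) (act (a 1) v.toMul))
    rw [key, key, show (a 1 : QuaternionGroup 2) * xa 0 = z * (xa 0 * a 1) by decide, map_mul,
      MulAut.mul_apply, hinv]
    rfl

/-- A semidirect product by a fixed-point-free action, with the size of the kernel. -/
theorem exists_frobenius_with_kernel {V H : Type} [Group V] [Group H] [Finite V] [Finite H]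
    [Nontrivial V] [Nontrivial H] (φ : H →* MulAut V) (hfpf : ∀ h, h ≠ 1 → ∀ v, φ h v = v → v = 1) :
    ∃ (L : Type) (_ : Group L) (_ : Finite L) (C : Subgroup L),
      Cfsg.IsFrobeniusComplement C ∧ Nonempty (C ≃* H) ∧
        Nat.card (Cfsg.frobeniusKernel C) = Nat.card V := by
  have : Finite (V ⋊[φ] H) := Finite.of_injective (fun x => (x.left, x.right)) fun x y h =>
    SemidirectProduct.ext (congrArg Prod.fst h) (congrArg Prod.snd h)
  set C := (SemidirectProduct.inr : H →* V ⋊[φ] H).range with hC
  have hmem : ∀ x : V ⋊[φ] H, x ∈ C ↔ x.left = 1 := fun x => by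
    constructor
    · rintro ⟨h, rfl⟩; rfl
    · intro h; exact ⟨x.right, SemidirectProduct.ext (by simp [h]) (by simp)⟩
  have hCH : C ≃* H := (MonoidHom.ofInjective SemidirectProduct.inr_injective).symm
  have hfc : Cfsg.IsFrobeniusComplement C := by
    refine Core.isFrobeniusComplement_of_malnormal ?_ ?_ fun g hg c hc hcg => ?_
    · obtain ⟨h, hh⟩ := exists_ne (1 : H)
      intro e
      exact hh (SemidirectProduct.inr_injective ((mem_bot.mp (e ▸ ⟨h, rfl⟩ :
        (SemidirectProduct.inr h : V ⋊[φ] H) ∈ (⊥ : Subgroup (V ⋊[φ] H)))).trans (map_one _).symm))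
    · obtain ⟨v, hv⟩ := exists_ne (1 : V)
      intro e
      exact hv ((hmem (SemidirectProduct.inl v)).mp (e ▸ mem_top _))
    · rw [hmem] at hg hc hcg
      by_contra hne
      have hr : c.right ≠ 1 := fun h => hne (SemidirectProduct.ext hc h)
      simp only [SemidirectProduct.mul_left, SemidirectProduct.inv_left, hc, map_one, mul_one,
        SemidirectProduct.mul_right, map_mul, MulAut.mul_apply] at hcg
      apply hg
      set g' := φ g.right (φ c.right (φ g.right⁻¹ g.left⁻¹)) with hg'
      have h2 : g.left * g' = 1 := hcg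
      have h3 : φ (g.right * c.right * g.right⁻¹) g.left = g.left := by
        have h4 : g' = g.left⁻¹ := eq_inv_of_mul_eq_one_right h2
        rw [hg'] at h4
        simp only [map_inv, inv_inj] at h4
        simpa [map_mul, MulAut.mul_apply] using h4
      exact hfpf _ (fun h => hr (by simpa [mul_assoc] using congrArg (fun z => g.right⁻¹ * z * g.right) h)) _ h3
  refine ⟨V ⋊[φ] H, inferInstance, inferInstance, C, hfc, ⟨hCH⟩, ?_⟩
  obtain ⟨N, hN, -, hNC⟩ := Core.exists_frobeniusKernel hfc
  rw [← hN, SetLike.coe_sort_coe]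
  have h1 := hNC.card_mul_card
  rw [SemidirectProduct.card, Nat.card_congr hCH.toEquiv] at h1
  exact mul_right_cancel₀ Nat.card_pos.ne' h1

theorem exists_quaternion_frobenius {k : ℕ} (hk : Odd k) (hk1 : 1 < k) :
    ∃ (L : Type) (_ : Group L) (_ : Finite L) (H : Subgroup L), Cfsg.IsFrobeniusComplement H ∧
        Nonempty (H ≃* QuaternionGroup 2) ∧ Nat.card (Cfsg.frobeniusKernel H) = k * k := by
  have : NeZero k := ⟨by omega⟩
  have : Fact (1 < k) := ⟨hk1⟩
  obtain ⟨a₀, b₀, hab⟩ := exists_sq_add_sq_neg_one hk
  set a' : ZMod k := (a₀ : ZMod k)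
  set b' : ZMod k := (b₀ : ZMod k)
  have hab' : a' * a' + b' * b' = -1 := by push_cast at hab; linear_combination hab
  let V := ZMod k × ZMod k
  let A : V → V := fun v => (-v.2, v.1)
  let J : V → V := fun v => (a' * v.1 + b' * v.2, b' * v.1 - a' * v.2)
  have hA4 : ∀ v, A^[4] v = v := fun v => by simp [A, Function.iterate_succ]
  have hJJ : ∀ v, J (J v) = A^[2] v := fun v => by
    refine Prod.ext ?_ ?_ <;> simp only [A, J, Function.iterate_succ, Function.iterate_zero,
      Function.comp_apply, id_eq]
    · linear_combination v.1 * hab'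
    · linear_combination v.2 * hab'
  have hAJ : ∀ v, A (J v) = J (A^[3] v) := fun v => by
    refine Prod.ext ?_ ?_ <;> simp [A, J, Function.iterate_succ] <;> ring
  have hmod : ∀ m, ∀ v, A^[m] v = A^[m % 4] v := fun m v => by
    conv_lhs => rw [← Nat.mod_add_div m 4, Function.iterate_add_apply, Function.iterate_mul,
      Function.iterate_fixed (hA4 v)]
  have hAmJ : ∀ m v, A^[m] (J v) = J (A^[3 * m] v) := by
    intro m
    induction m with
    | zero => intro v; rfl
    | succ m ih =>
      intro v
      rw [Function.iterate_succ_apply, hAJ, ih, ← Function.iterate_add_apply, Nat.mul_succ]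
  let T : QuaternionGroup 2 → V → V := fun q v =>
    match q with
    | .a i => A^[i.val] v
    | .xa i => J (A^[i.val] v)
  have hmul : ∀ p q v, T (p * q) v = T p (T q v) := by
    rintro (i | i) (j | j) v
    · rw [a_mul_a]
      show A^[(i + j).val] v = A^[i.val] (A^[j.val] v)
      rw [← Function.iterate_add_apply, hmod (i.val + j.val), hmod ((i + j).val)]
      congr 1
      revert i j; decide
    · rw [a_mul_xa]
      show J (A^[(j - i).val] v) = A^[i.val] (J (A^[j.val] v))
      rw [hAmJ, ← Function.iterate_add_apply, hmod (3 * i.val + j.val), hmod ((j - i).val)]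
      congr 2
      revert i j; decide
    · rw [xa_mul_a]
      show J (A^[(i + j).val] v) = J (A^[i.val] (A^[j.val] v))
      rw [← Function.iterate_add_apply, hmod (i.val + j.val), hmod ((i + j).val)]
      congr 2
      revert i j; decide
    · rw [xa_mul_xa]
      show A^[((2 : ℕ) + j - i : ZMod (2 * 2)).val] v = J (A^[i.val] (J (A^[j.val] v)))
      rw [hAmJ, hJJ, ← Function.iterate_add_apply, ← Function.iterate_add_apply,
        hmod (2 + 3 * i.val + j.val), hmod (((2 : ℕ) + j - i : ZMod (2 * 2)).val)]
      congr 1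
      revert i j; decide
  have hone : ∀ v, T 1 v = v := fun v => rfl
  have hAadd : ∀ v w, A (v + w) = A v + A w := fun v w =>
    Prod.ext (show -(v.2 + w.2) = -v.2 + -w.2 by ring) rfl
  have hAadd' : ∀ m v w, A^[m] (v + w) = A^[m] v + A^[m] w := by
    intro m
    induction m with
    | zero => intro v w; rfl
    | succ m ih => intro v w; simp only [Function.iterate_succ_apply, hAadd, ih]
  have hJadd : ∀ v w, J (v + w) = J v + J w := fun v w =>
    Prod.ext (show a' * (v.1 + w.1) + b' * (v.2 + w.2) = a' * v.1 + b' * v.2 + (a' * w.1 + b' * w.2) by ring)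
      (show b' * (v.1 + w.1) - a' * (v.2 + w.2) = b' * v.1 - a' * v.2 + (b' * w.1 - a' * w.2) by ring)
  have hadd : ∀ q v w, T q (v + w) = T q v + T q w := by
    rintro (i | i) v w
    · exact hAadd' _ v w
    · show J _ = J _ + J _
      rw [hAadd', hJadd]
  let φ : QuaternionGroup 2 →* MulAut (Multiplicative V) :=
    { toFun := fun w => AddEquiv.toMultiplicative
        { toFun := T w
          invFun := T w⁻¹
          left_inv := fun v => by rw [← hmul, inv_mul_cancel, hone]
          right_inv := fun v => by rw [← hmul, mul_inv_cancel, hone]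
          map_add' := hadd w }
      map_one' := MulEquiv.ext fun v => congrArg Multiplicative.ofAdd (hone _)
      map_mul' := fun u w => MulEquiv.ext fun v => congrArg Multiplicative.ofAdd (hmul u w _) }
  have : Nontrivial (Multiplicative V) := inferInstanceAs (Nontrivial V)
  have hz : ∀ v : V, T (a 2) v = v → v = 0 := by
    intro v hv
    have two : IsUnit ((2 : ℕ) : ZMod k) :=
      (ZMod.unitOfCoprime 2 (Nat.coprime_two_left.2 hk)).isUnit
    have h1 : ((2 : ℕ) : ZMod k) * v.1 = ((2 : ℕ) : ZMod k) * 0 := by
      have h := congrArg Prod.fst hv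
      change -v.1 = v.1 at h
      push_cast; linear_combination -h
    have h2 : ((2 : ℕ) : ZMod k) * v.2 = ((2 : ℕ) : ZMod k) * 0 := by
      have h := congrArg Prod.snd hv
      change -v.2 = v.2 at h
      push_cast; linear_combination -h
    exact Prod.ext (two.mul_left_cancel h1) (two.mul_left_cancel h2)
  have hsq : ∀ q : QuaternionGroup 2, q ≠ 1 → q = a 2 ∨ q * q = a 2 := by decide
  obtain ⟨L, i1, i2, C, hC, hiso, hcard⟩ := exists_frobenius_with_kernel φ fun q hq v hv => by
    have hv' : T q v.toAdd = v.toAdd := congrArg Multiplicative.toAdd hv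
    refine Multiplicative.toAdd.injective (hz v.toAdd ?_)
    rcases hsq q hq with h | h
    · rw [← h]; exact hv'
    · rw [← h, hmul, hv', hv']
  exact ⟨L, i1, i2, C, hC, hiso, by
    rw [hcard]; exact (Nat.card_congr Multiplicative.toAdd).trans (by rw [Nat.card_prod, Nat.card_zmod])⟩

end Cfsg.Agent.Fg24
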